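import Cfsg.Agent.Spor.J4W.D0

set_option autoImplicit false
set_option maxRecDepth 100000000
set_option Elab.async false

namespace Cfsg.Agent.Spor.J4W

theorem T4ok : PA.gensOk J4V.A T4 4 = true := by decide +kernel

theorem tw : allN (fun j => PA.isW J4V.A J4V.TT (nth [] [[0], [2], [2, 1, 2, 1, 3, 1, 3, 1, 3, 1, 3, 4, 2, 0, 2, 0, 2, 0, 2, 0, 3, 0, 2, 1, 2, 1, 3, 1, 3, 1, 3, 1, 3, 4, 2, 0, 2, 0, 2, 0, 2, 0, 3, 0, 2, 1, 2, 1, 3, 1, 3, 1, 3, 1, 3, 4, 2, 0, 2, 0, 2, 0, 2, 0, 3, 0], [4]] j) (nth J4V.A.one T4 (2 * j))) 4 = true := by decide +kernel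

theorem w2 : PA.isW J4V.A T4 [0, 2, 0, 3, 0, 3, 0, 2, 0, 2, 0, 2, 0, 3, 0, 3, 6, 2, 0, 3, 0, 2, 0, 3, 0, 2, 0, 3, 0, 2, 0, 3, 0, 3, 0, 3, 0, 3, 0, 3, 0, 2, 0, 2, 0, 3, 0, 3, 0, 2, 0, 2, 0, 2, 0, 2, 0, 2, 0, 2, 0, 2, 0, 2, 0, 2, 1, 4, 0, 3, 1, 2, 1, 3, 1, 4, 0, 2, 0, 3, 0, 6, 0, 2, 0, 2, 0, 2, 0, 3, 0, 3, 0, 3, 0] m1 = true := by decide +kernel

theorem iv5 : band (PA.can J4V.A m4) (Nat.beq (PA.mul J4V.A m1 m4) J4V.A.one) = true := by decide +kernel

theorem w8 : PA.isW J4V.A T4 [2, 1, 4, 0, 3, 1, 2, 1, 3, 1, 4, 0, 2, 0, 3, 0] m7 = true := by decide +kernel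

theorem w11 : PA.isW J4V.A T4 [1, 2, 1, 3, 1, 3, 1, 2, 1, 2, 1, 3, 1, 2, 1, 3, 1, 4, 0, 2, 0, 3, 0, 2, 0, 3, 0, 3, 0, 2, 0, 2, 0, 3, 0] m10 = true := by decide +kernel

theorem pr14 : Nat.beq (PA.prod J4V.A [m4, m10, m1] J4V.A.one) m13 = true := by decide +kernel

theorem w17 : PA.isW J4V.A T4 [1, 4, 0, 3, 1, 2, 1, 3, 1, 4, 0, 2, 0, 3, 0, 2] m16 = true := by decide +kernel

theorem w20 : PA.isW J4V.A T4 [3, 1, 2, 1, 3, 1, 2, 1, 3, 1, 3, 1, 2, 1, 2, 1, 3, 1, 4, 0, 2, 0, 3, 0, 3, 0, 2, 0, 2, 0, 3, 0, 2, 0, 3, 0, 2] m19 = true := by decide +kernel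

theorem pr23 : Nat.beq (PA.prod J4V.A [m4, m19, m1] J4V.A.one) m22 = true := by decide +kernel

theorem w26 : PA.isW J4V.A T4 [1, 2, 1, 4, 0, 3, 3, 1, 2, 1, 4, 0, 3, 0, 2, 0] m25 = true := by decide +kernel

theorem w29 : PA.isW J4V.A T4 [2, 1, 2, 1, 3, 1, 2, 1, 3, 1, 2, 1, 3, 1, 4, 0, 2, 0, 3, 0, 2, 0, 3, 0, 2, 0, 3, 0, 3] m28 = true := by decide +kernel

theorem pr32 : Nat.beq (PA.prod J4V.A [m4, m28, m1] J4V.A.one) m31 = true := by decide +kernel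

theorem w35 : PA.isW J4V.A T4 [1, 4, 2, 1, 3, 1, 3, 1, 4, 0, 2, 0, 2, 0, 3, 0] m34 = true := by decide +kernel

theorem w38 : PA.isW J4V.A T4 [1, 2, 1, 2, 1, 2, 1, 3, 1, 2, 1, 3, 1, 3, 1, 4, 0, 2, 0, 2, 0, 3, 0, 2, 0, 3, 0, 3, 0, 3, 0] m37 = true := by decide +kernel

theorem pr41 : Nat.beq (PA.prod J4V.A [m4, m37, m1] J4V.A.one) m40 = true := by decide +kernel

theorem w44 : PA.isW J4V.A T4 [3, 1, 4, 0, 2, 2, 1, 2, 1, 3, 1, 4, 0, 2, 0, 3, 0, 3] m43 = true := by decide +kernel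

theorem w47 : PA.isW J4V.A T4 [1, 2, 1, 2, 1, 3, 1, 2, 1, 3, 1, 3, 1, 3, 1, 4, 0, 2, 0, 2, 0, 2, 0, 3, 0, 2, 0, 3, 0, 3, 0] m46 = true := by decide +kernel

theorem pr50 : Nat.beq (PA.prod J4V.A [m4, m46, m1] J4V.A.one) m49 = true := by decide +kernel

theorem w53 : PA.isW J4V.A T4 [2, 1, 2, 1, 4, 0, 3, 3, 1, 2, 1, 4, 0, 3, 0, 2, 0, 3] m52 = true := by decide +kernel

theorem w56 : PA.isW J4V.A T4 [2, 1, 2, 1, 3, 1, 2, 1, 3, 1, 2, 1, 3, 1, 3, 1, 4, 0, 2, 0, 2, 0, 3, 0, 2, 0, 3, 0, 2, 0, 3, 0, 3] m55 = true := by decide +kernel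

theorem pr59 : Nat.beq (PA.prod J4V.A [m4, m55, m1] J4V.A.one) m58 = true := by decide +kernel

theorem w62 : PA.isW J4V.A T4 [2, 0, 2, 0, 3, 0, 3, 0, 2, 0, 3, 0, 2, 0, 3, 0, 2, 0, 3, 0, 2, 0, 2, 0, 3, 0, 3, 0, 3, 0, 2, 0, 2, 0, 3, 0, 3, 0, 3, 0, 3, 0, 3, 0, 3, 0, 2, 0, 2, 0, 3] m61 = true := by decide +kernel

theorem w64 : PA.isW J4V.A T4 [2] J4V.gy = true := by decide +kernel

theorem w66 : PA.isW J4V.A T4 [0, 2, 0, 3, 0, 3, 0, 3, 0, 3, 0, 2, 0, 2, 0, 2, 0, 2, 0, 3, 0] m65 = true := by decide +kernel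

theorem w69 : PA.isW J4V.A T4 [0, 2, 0, 3, 0, 3, 0, 3, 0, 2, 0, 3, 0, 2, 0, 2, 0, 2, 0, 3, 0] m68 = true := by decide +kernel

theorem w72 : PA.isW J4V.A T4 [0, 4, 0] m71 = true := by decide +kernel

theorem pr75 : Nat.beq (PA.prod J4V.A [m65, m68, m65] J4V.A.one) m74 = true := by decide +kernel

theorem w78 : PA.isW J4V.A T4 [0, 2, 0, 3, 0, 3, 0, 3, 0, 3, 6, 2, 0, 2, 0, 2, 0, 2, 0, 3, 0] m77 = true := by decide +kernel

theorem TKok : PA.gensOk J4V.A TK 20 = true := by decide +kernel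

theorem TQok : PA.gensOk J4V.A TQ 13 = true := by decide +kernel

theorem TNok : PA.gensOk J4V.A TN 14 = true := by decide +kernel

theorem TFok : PA.gensOk J4V.A TF 5 = true := by decide +kernel

theorem pTQ : allN (fun j => Nat.beq (nth J4V.A.one TQ (2 * j)) (nth J4V.A.one TK (Nat.mul 2 j))) 13 = true := by decide +kernel

theorem pTN : allN (fun j => Nat.beq (nth J4V.A.one TN (2 * j)) (nth J4V.A.one TK (Nat.mul 2 j))) 14 = true := by decide +kernel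

theorem pTF : allN (fun j => Nat.beq (nth J4V.A.one TF (2 * j)) (nth J4V.A.one TK (Nat.mul 2 (14 + j)))) 5 = true := by decide +kernel

theorem q0 : PA.neq J4V.A (PA.evw J4V.A TQ [0] J4V.A.one) J4V.A.one = true := by decide +kernel

theorem q81 : PA.isW J4V.A TQ [2 * 0, 2 * 0] J4V.A.one = true := by decide +kernel

theorem q82 : PA.isW J4V.A TQ [2 * 1, 2 * 1] J4V.A.one = true := by decide +kernel

theorem q83 : PA.isW J4V.A TQ [2 * 2, 2 * 2] J4V.A.one = true := by decide +kernel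

theorem q84 : PA.isW J4V.A TQ [2 * 3, 2 * 3] J4V.A.one = true := by decide +kernel

theorem q85 : PA.isW J4V.A TQ [2 * 4, 2 * 4] J4V.A.one = true := by decide +kernel

theorem q86 : PA.isW J4V.A TQ [2 * 5, 2 * 5] J4V.A.one = true := by decide +kernel

theorem q87 : PA.isW J4V.A TQ [2 * 6, 2 * 6] J4V.A.one = true := by decide +kernel

theorem q88 : PA.isW J4V.A TQ [2 * 7, 2 * 7] J4V.A.one = true := by decide +kernel

theorem q89 : PA.isW J4V.A TQ [2 * 8, 2 * 8] J4V.A.one = true := by decide +kernel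

theorem q90 : PA.isW J4V.A TQ [2 * 9, 2 * 9] J4V.A.one = true := by decide +kernel

theorem q91 : PA.isW J4V.A TQ [2 * 10, 2 * 10] J4V.A.one = true := by decide +kernel

theorem q92 : PA.isW J4V.A TQ [2 * 11, 2 * 11] J4V.A.one = true := by decide +kernel

theorem q93 : PA.isW J4V.A TQ [2 * 12, 2 * 12] J4V.A.one = true := by decide +kernel

theorem q94 : allN (fun j => Nat.beq (PA.evw J4V.A TQ [2 * 0, 2 * j] J4V.A.one) (PA.evw J4V.A TQ (lapp (Bool.rec [] [0] (xpr 0 j)) [2 * j, 2 * 0]) J4V.A.one)) 0 = true := by decide +kernel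

theorem q95 : allN (fun j => Nat.beq (PA.evw J4V.A TQ [2 * 1, 2 * j] J4V.A.one) (PA.evw J4V.A TQ (lapp (Bool.rec [] [0] (xpr 1 j)) [2 * j, 2 * 1]) J4V.A.one)) 1 = true := by decide +kernel

theorem q96 : allN (fun j => Nat.beq (PA.evw J4V.A TQ [2 * 2, 2 * j] J4V.A.one) (PA.evw J4V.A TQ (lapp (Bool.rec [] [0] (xpr 2 j)) [2 * j, 2 * 2]) J4V.A.one)) 2 = true := by decide +kernel

theorem q97 : allN (fun j => Nat.beq (PA.evw J4V.A TQ [2 * 3, 2 * j] J4V.A.one) (PA.evw J4V.A TQ (lapp (Bool.rec [] [0] (xpr 3 j)) [2 * j, 2 * 3]) J4V.A.one)) 3 = true := by decide +kernel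

theorem q98 : allN (fun j => Nat.beq (PA.evw J4V.A TQ [2 * 4, 2 * j] J4V.A.one) (PA.evw J4V.A TQ (lapp (Bool.rec [] [0] (xpr 4 j)) [2 * j, 2 * 4]) J4V.A.one)) 4 = true := by decide +kernel

theorem q99 : allN (fun j => Nat.beq (PA.evw J4V.A TQ [2 * 5, 2 * j] J4V.A.one) (PA.evw J4V.A TQ (lapp (Bool.rec [] [0] (xpr 5 j)) [2 * j, 2 * 5]) J4V.A.one)) 5 = true := by decide +kernel

theorem q100 : allN (fun j => Nat.beq (PA.evw J4V.A TQ [2 * 6, 2 * j] J4V.A.one) (PA.evw J4V.A TQ (lapp (Bool.rec [] [0] (xpr 6 j)) [2 * j, 2 * 6]) J4V.A.one)) 6 = true := by decide +kernel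

theorem q101 : allN (fun j => Nat.beq (PA.evw J4V.A TQ [2 * 7, 2 * j] J4V.A.one) (PA.evw J4V.A TQ (lapp (Bool.rec [] [0] (xpr 7 j)) [2 * j, 2 * 7]) J4V.A.one)) 7 = true := by decide +kernel

theorem q102 : allN (fun j => Nat.beq (PA.evw J4V.A TQ [2 * 8, 2 * j] J4V.A.one) (PA.evw J4V.A TQ (lapp (Bool.rec [] [0] (xpr 8 j)) [2 * j, 2 * 8]) J4V.A.one)) 8 = true := by decide +kernel

theorem q103 : allN (fun j => Nat.beq (PA.evw J4V.A TQ [2 * 9, 2 * j] J4V.A.one) (PA.evw J4V.A TQ (lapp (Bool.rec [] [0] (xpr 9 j)) [2 * j, 2 * 9]) J4V.A.one)) 9 = true := by decide +kernel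

theorem q104 : allN (fun j => Nat.beq (PA.evw J4V.A TQ [2 * 10, 2 * j] J4V.A.one) (PA.evw J4V.A TQ (lapp (Bool.rec [] [0] (xpr 10 j)) [2 * j, 2 * 10]) J4V.A.one)) 10 = true := by decide +kernel

theorem q105 : allN (fun j => Nat.beq (PA.evw J4V.A TQ [2 * 11, 2 * j] J4V.A.one) (PA.evw J4V.A TQ (lapp (Bool.rec [] [0] (xpr 11 j)) [2 * j, 2 * 11]) J4V.A.one)) 11 = true := by decide +kernel

theorem q106 : allN (fun j => Nat.beq (PA.evw J4V.A TQ [2 * 12, 2 * j] J4V.A.one) (PA.evw J4V.A TQ (lapp (Bool.rec [] [0] (xpr 12 j)) [2 * j, 2 * 12]) J4V.A.one)) 12 = true := by decide +kernel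

theorem r107 : Nat.beq (PA.evw J4V.A TF [0, 0] J4V.A.one) (PA.evw J4V.A TN [] J4V.A.one) = true := by decide +kernel

theorem r108 : Nat.beq (PA.evw J4V.A TF [2, 2] J4V.A.one) (PA.evw J4V.A TN [] J4V.A.one) = true := by decide +kernel

theorem r109 : Nat.beq (PA.evw J4V.A TF [4, 4] J4V.A.one) (PA.evw J4V.A TN [] J4V.A.one) = true := by decide +kernel

theorem r110 : Nat.beq (PA.evw J4V.A TF [6, 6] J4V.A.one) (PA.evw J4V.A TN [] J4V.A.one) = true := by decide +kernel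

theorem r111 : Nat.beq (PA.evw J4V.A TF [8, 8, 8] J4V.A.one) (PA.evw J4V.A TN [] J4V.A.one) = true := by decide +kernel

theorem r112 : Nat.beq (PA.evw J4V.A TF [8, 0, 8, 0] J4V.A.one) (PA.evw J4V.A TN [2, 8, 12, 14, 16, 20, 22, 24] J4V.A.one) = true := by decide +kernel

theorem r113 : Nat.beq (PA.evw J4V.A TF [8, 4, 8, 4, 8, 4, 8, 4, 8, 4] J4V.A.one) (PA.evw J4V.A TN [0, 6, 8, 12, 14, 16, 22, 26] J4V.A.one) = true := by decide +kernel

theorem r114 : Nat.beq (PA.evw J4V.A TF [8, 4, 9, 4, 0, 4, 8, 4, 9, 0, 4, 0] J4V.A.one) (PA.evw J4V.A TN [0, 2, 4, 8, 10, 12, 16, 18, 20, 22, 24] J4V.A.one) = true := by decide +kernel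

theorem r115 : Nat.beq (PA.evw J4V.A TF [0, 8, 2, 9, 2, 0, 2] J4V.A.one) (PA.evw J4V.A TN [6, 10] J4V.A.one) = true := by decide +kernel

theorem r116 : Nat.beq (PA.evw J4V.A TF [4, 9, 4, 2, 4, 8, 4, 2] J4V.A.one) (PA.evw J4V.A TN [10, 18, 22] J4V.A.one) = true := by decide +kernel

theorem r117 : Nat.beq (PA.evw J4V.A TF [4, 0, 2, 4, 0, 2, 4, 0, 2] J4V.A.one) (PA.evw J4V.A TN [0, 4, 8, 10, 12, 16, 20, 22, 24] J4V.A.one) = true := by decide +kernel

theorem r118 : Nat.beq (PA.evw J4V.A TF [0, 9, 6, 8, 0, 6] J4V.A.one) (PA.evw J4V.A TN [] J4V.A.one) = true := by decide +kernel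

theorem r119 : Nat.beq (PA.evw J4V.A TF [0, 2, 4, 2, 4, 0, 6, 0, 2, 4, 2, 0, 6] J4V.A.one) (PA.evw J4V.A TN [2, 10, 12, 14, 16, 18, 20, 22, 24] J4V.A.one) = true := by decide +kernel

theorem r120 : Nat.beq (PA.evw J4V.A TF [8, 6, 9, 4, 9, 6, 8, 4, 6] J4V.A.one) (PA.evw J4V.A TN [0] J4V.A.one) = true := by decide +kernel

theorem w121 : PA.isW J4V.A TF [0, 2, 4, 6, 0, 2, 4, 6, 0, 2, 4, 6] gF = true := by decide +kernel

theorem oF : band (Nat.beq (PA.pw J4V.A gF 11) J4V.A.one) (PA.neq J4V.A gF J4V.A.one) = true := by decide +kernel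

theorem o13 : band (Nat.beq (PA.pw J4V.A (nth J4V.A.one TK (Nat.mul 2 13)) 3) J4V.A.one) (PA.neq J4V.A (nth J4V.A.one TK (Nat.mul 2 13)) J4V.A.one) = true := by decide +kernel

theorem o0 : band (Nat.beq (PA.pw J4V.A (nth J4V.A.one TK (Nat.mul 2 0)) 2) J4V.A.one) (PA.neq J4V.A (nth J4V.A.one TK (Nat.mul 2 0)) J4V.A.one) = true := by decide +kernel

theorem p13 : PA.pcP J4V.A TK 13 3 [] = true := by decide +kernel

theorem p19 : PA.pcP J4V.A TK 19 2 [] = true := by decide +kernel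

theorem cr : leq (PA.evs J4V.A T4 [[2], [0, 2, 0, 3, 0, 3, 0, 3, 0, 3, 0, 2, 0, 2, 0, 2, 0, 2, 0, 3, 0], [0, 2, 0, 3, 0, 3, 0, 3, 0, 2, 0, 3, 0, 2, 0, 2, 0, 2, 0, 3, 0], [0, 4, 0]]) (PA.evs J4V.A TK [[36], [38], [28], [30]]) = true := by decide +kernel

theorem cz : Nat.beq (PA.evw J4V.A T4 [4] J4V.A.one) (PA.evw J4V.A TK [0] J4V.A.one) = true := by decide +kernel

theorem cmK : allN (fun j => Nat.beq (PA.mul J4V.A (nth J4V.A.one TK (2 * j)) (nth J4V.A.one TK 0)) (PA.mul J4V.A (nth J4V.A.one TK 0) (nth J4V.A.one TK (2 * j)))) 20 = true := by decide +kernel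

theorem pc123 : PA.pcC J4V.A TK 13 0 [0] = true := by decide +kernel

theorem pc124 : PA.pcC J4V.A TK 13 1 [0, 6, 10, 14, 18] = true := by decide +kernel

theorem pc125 : PA.pcC J4V.A TK 13 2 [0, 4, 8] = true := by decide +kernel

theorem pc126 : PA.pcC J4V.A TK 13 3 [2, 6, 14, 22] = true := by decide +kernel

theorem pc127 : PA.pcC J4V.A TK 13 4 [4] = true := by decide +kernel

theorem pc128 : PA.pcC J4V.A TK 13 5 [0, 10, 22] = true := by decide +kernel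

theorem pc129 : PA.pcC J4V.A TK 13 6 [4, 24] = true := by decide +kernel

theorem pc130 : PA.pcC J4V.A TK 13 7 [14, 18] = true := by decide +kernel

theorem pc131 : PA.pcC J4V.A TK 13 8 [0, 4, 8, 20] = true := by decide +kernel

theorem pc132 : PA.pcC J4V.A TK 13 9 [14] = true := by decide +kernel

theorem pc133 : PA.pcC J4V.A TK 13 10 [0, 4, 16, 20] = true := by decide +kernel

theorem pc134 : PA.pcC J4V.A TK 13 11 [10] = true := by decide +kernel

theorem pc135 : PA.pcC J4V.A TK 13 12 [0, 8, 12, 24] = true := by decide +kernel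

theorem pk136 : PA.pcK J4V.A TK 13 13 0 [0] = true := by decide +kernel

theorem pk137 : PA.pcK J4V.A TK 13 13 1 [0, 6, 10, 14, 18] = true := by decide +kernel

theorem pk138 : PA.pcK J4V.A TK 13 13 2 [0, 4, 8] = true := by decide +kernel

theorem pk139 : PA.pcK J4V.A TK 13 13 3 [2, 6, 14, 22] = true := by decide +kernel

theorem pk140 : PA.pcK J4V.A TK 13 13 4 [4] = true := by decide +kernel

theorem pk141 : PA.pcK J4V.A TK 13 13 5 [0, 10, 22] = true := by decide +kernel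

theorem pk142 : PA.pcK J4V.A TK 13 13 6 [4, 24] = true := by decide +kernel

theorem pk143 : PA.pcK J4V.A TK 13 13 7 [14, 18] = true := by decide +kernel

theorem pk144 : PA.pcK J4V.A TK 13 13 8 [0, 4, 8, 20] = true := by decide +kernel

theorem pk145 : PA.pcK J4V.A TK 13 13 9 [14] = true := by decide +kernel

theorem pk146 : PA.pcK J4V.A TK 13 13 10 [0, 4, 16, 20] = true := by decide +kernel

theorem pk147 : PA.pcK J4V.A TK 13 13 11 [10] = true := by decide +kernel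

theorem pk148 : PA.pcK J4V.A TK 13 13 12 [0, 8, 12, 24] = true := by decide +kernel

theorem pk149 : PA.pcK J4V.A TK 13 14 0 [0] = true := by decide +kernel

theorem pk150 : PA.pcK J4V.A TK 13 14 1 [6] = true := by decide +kernel

theorem pk151 : PA.pcK J4V.A TK 13 14 2 [0, 8, 24] = true := by decide +kernel

theorem pk152 : PA.pcK J4V.A TK 13 14 3 [2] = true := by decide +kernel

theorem pk153 : PA.pcK J4V.A TK 13 14 4 [4, 12] = true := by decide +kernel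

theorem pk154 : PA.pcK J4V.A TK 13 14 5 [6, 18, 22] = true := by decide +kernel

theorem pk155 : PA.pcK J4V.A TK 13 14 6 [0, 24] = true := by decide +kernel

theorem pk156 : PA.pcK J4V.A TK 13 14 7 [14] = true := by decide +kernel

theorem pk157 : PA.pcK J4V.A TK 13 14 8 [16] = true := by decide +kernel

theorem pk158 : PA.pcK J4V.A TK 13 14 9 [0, 18] = true := by decide +kernel

theorem pk159 : PA.pcK J4V.A TK 13 14 10 [0, 12, 20, 24] = true := by decide +kernel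

theorem pk160 : PA.pcK J4V.A TK 13 14 11 [0, 2, 10, 18] = true := by decide +kernel

theorem pk161 : PA.pcK J4V.A TK 13 14 12 [0, 12] = true := by decide +kernel

theorem pk162 : PA.pcK J4V.A TK 13 15 0 [0] = true := by decide +kernel

theorem pk163 : PA.pcK J4V.A TK 13 15 1 [2] = true := by decide +kernel

theorem pk164 : PA.pcK J4V.A TK 13 15 2 [4, 6] = true := by decide +kernel

theorem pk165 : PA.pcK J4V.A TK 13 15 3 [6] = true := by decide +kernel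

theorem pk166 : PA.pcK J4V.A TK 13 15 4 [0, 2, 8, 14, 22] = true := by decide +kernel

theorem pk167 : PA.pcK J4V.A TK 13 15 5 [10] = true := by decide +kernel

theorem pk168 : PA.pcK J4V.A TK 13 15 6 [12] = true := by decide +kernel

theorem pk169 : PA.pcK J4V.A TK 13 15 7 [14] = true := by decide +kernel

theorem pk170 : PA.pcK J4V.A TK 13 15 8 [0, 6, 16, 18] = true := by decide +kernel

theorem pk171 : PA.pcK J4V.A TK 13 15 9 [18] = true := by decide +kernel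

theorem pk172 : PA.pcK J4V.A TK 13 15 10 [0, 14, 20] = true := by decide +kernel

theorem pk173 : PA.pcK J4V.A TK 13 15 11 [22] = true := by decide +kernel

theorem pk174 : PA.pcK J4V.A TK 13 15 12 [0, 6, 24] = true := by decide +kernel

theorem pk175 : PA.pcK J4V.A TK 13 16 0 [0] = true := by decide +kernel

theorem pk176 : PA.pcK J4V.A TK 13 16 1 [0, 2] = true := by decide +kernel

theorem pk177 : PA.pcK J4V.A TK 13 16 2 [0, 4, 6, 8, 10, 18, 20] = true := by decide +kernel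

theorem pk178 : PA.pcK J4V.A TK 13 16 3 [2, 10, 14, 18, 22] = true := by decide +kernel

theorem pk179 : PA.pcK J4V.A TK 13 16 4 [2, 16, 18] = true := by decide +kernel

theorem pk180 : PA.pcK J4V.A TK 13 16 5 [0, 10] = true := by decide +kernel

theorem pk181 : PA.pcK J4V.A TK 13 16 6 [2, 8, 12, 14, 20, 22] = true := by decide +kernel

theorem pk182 : PA.pcK J4V.A TK 13 16 7 [6, 18, 22] = true := by decide +kernel

theorem pk183 : PA.pcK J4V.A TK 13 16 8 [0, 8, 10, 18] = true := by decide +kernel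

theorem pk184 : PA.pcK J4V.A TK 13 16 9 [2, 10, 18] = true := by decide +kernel

theorem pk185 : PA.pcK J4V.A TK 13 16 10 [2, 6, 8, 14, 16, 20, 22] = true := by decide +kernel

theorem pk186 : PA.pcK J4V.A TK 13 16 11 [22] = true := by decide +kernel

theorem pk187 : PA.pcK J4V.A TK 13 16 12 [8, 10, 16, 18, 24] = true := by decide +kernel

theorem pk188 : PA.pcK J4V.A TK 13 17 0 [0] = true := by decide +kernel

theorem pk189 : PA.pcK J4V.A TK 13 17 1 [8, 12, 14, 16, 20, 22, 24] = true := by decide +kernel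

theorem pk190 : PA.pcK J4V.A TK 13 17 2 [10, 14, 18] = true := by decide +kernel

theorem pk191 : PA.pcK J4V.A TK 13 17 3 [4, 10, 12, 14, 16, 18] = true := by decide +kernel

theorem pk192 : PA.pcK J4V.A TK 13 17 4 [14, 22] = true := by decide +kernel

theorem pk193 : PA.pcK J4V.A TK 13 17 5 [4, 8, 18, 22] = true := by decide +kernel

theorem pk194 : PA.pcK J4V.A TK 13 17 6 [2, 8, 14, 16, 20, 22, 24] = true := by decide +kernel

theorem pk195 : PA.pcK J4V.A TK 13 17 7 [4, 8, 10, 14, 18, 22] = true := by decide +kernel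

theorem pk196 : PA.pcK J4V.A TK 13 17 8 [0, 2, 4, 6, 8, 10, 16, 18, 20, 22, 24] = true := by decide +kernel

theorem pk197 : PA.pcK J4V.A TK 13 17 9 [4, 10, 14] = true := by decide +kernel

theorem pk198 : PA.pcK J4V.A TK 13 17 10 [2, 8, 12, 14, 16, 22, 24] = true := by decide +kernel

theorem pk199 : PA.pcK J4V.A TK 13 17 11 [4, 10, 14, 18, 22] = true := by decide +kernel

theorem pk200 : PA.pcK J4V.A TK 13 17 12 [4, 6, 10, 12, 14, 16, 18, 24] = true := by decide +kernel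

theorem pk201 : PA.pcK J4V.A TK 13 18 0 [0] = true := by decide +kernel

theorem pk202 : PA.pcK J4V.A TK 13 18 1 [18] = true := by decide +kernel

theorem pk203 : PA.pcK J4V.A TK 13 18 2 [14, 20] = true := by decide +kernel

theorem pk204 : PA.pcK J4V.A TK 13 18 3 [2] = true := by decide +kernel

theorem pk205 : PA.pcK J4V.A TK 13 18 4 [0, 4, 16, 18] = true := by decide +kernel

theorem pk206 : PA.pcK J4V.A TK 13 18 5 [22] = true := by decide +kernel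

theorem pk207 : PA.pcK J4V.A TK 13 18 6 [0, 12, 16, 18, 24] = true := by decide +kernel

theorem pk208 : PA.pcK J4V.A TK 13 18 7 [0, 2, 6, 14, 22] = true := by decide +kernel

theorem pk209 : PA.pcK J4V.A TK 13 18 8 [6, 16, 18] = true := by decide +kernel

theorem pk210 : PA.pcK J4V.A TK 13 18 9 [6] = true := by decide +kernel

theorem pk211 : PA.pcK J4V.A TK 13 18 10 [2, 6, 8, 14, 16, 18, 22] = true := by decide +kernel

theorem pk212 : PA.pcK J4V.A TK 13 18 11 [0, 10, 22] = true := by decide +kernel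

theorem pk213 : PA.pcK J4V.A TK 13 18 12 [0, 12] = true := by decide +kernel

theorem pk214 : PA.pcK J4V.A TK 13 19 0 [0] = true := by decide +kernel

theorem pk215 : PA.pcK J4V.A TK 13 19 1 [0, 18] = true := by decide +kernel

theorem pk216 : PA.pcK J4V.A TK 13 19 2 [0, 8, 10, 12, 16, 20, 22, 24] = true := by decide +kernel

theorem pk217 : PA.pcK J4V.A TK 13 19 3 [0, 2, 10, 18] = true := by decide +kernel

theorem pk218 : PA.pcK J4V.A TK 13 19 4 [0, 12, 16, 22] = true := by decide +kernel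

theorem pk219 : PA.pcK J4V.A TK 13 19 5 [0, 2, 6, 18] = true := by decide +kernel

theorem pk220 : PA.pcK J4V.A TK 13 19 6 [2, 8, 14, 16, 18, 22, 24] = true := by decide +kernel

theorem pk221 : PA.pcK J4V.A TK 13 19 7 [0, 2, 6, 10, 14, 18] = true := by decide +kernel

theorem pk222 : PA.pcK J4V.A TK 13 19 8 [0, 10, 16, 24] = true := by decide +kernel

theorem pk223 : PA.pcK J4V.A TK 13 19 9 [0, 2] = true := by decide +kernel

theorem pk224 : PA.pcK J4V.A TK 13 19 10 [0, 4, 8, 10, 12, 16, 22, 24] = true := by decide +kernel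

theorem pk225 : PA.pcK J4V.A TK 13 19 11 [2, 10, 14, 18, 22] = true := by decide +kernel

theorem pk226 : PA.pcK J4V.A TK 13 19 12 [0, 2, 6, 10, 18, 24] = true := by decide +kernel

theorem pk227 : PA.pcK J4V.A TK 14 14 0 [0] = true := by decide +kernel

theorem pk228 : PA.pcK J4V.A TK 14 14 1 [6] = true := by decide +kernel

theorem pk229 : PA.pcK J4V.A TK 14 14 2 [0, 8, 24] = true := by decide +kernel

theorem pk230 : PA.pcK J4V.A TK 14 14 3 [2] = true := by decide +kernel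

theorem pk231 : PA.pcK J4V.A TK 14 14 4 [4, 12] = true := by decide +kernel

theorem pk232 : PA.pcK J4V.A TK 14 14 5 [6, 18, 22] = true := by decide +kernel

theorem pk233 : PA.pcK J4V.A TK 14 14 6 [0, 24] = true := by decide +kernel

theorem pk234 : PA.pcK J4V.A TK 14 14 7 [14] = true := by decide +kernel

theorem pk235 : PA.pcK J4V.A TK 14 14 8 [16] = true := by decide +kernel

theorem pk236 : PA.pcK J4V.A TK 14 14 9 [0, 18] = true := by decide +kernel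

theorem pk237 : PA.pcK J4V.A TK 14 14 10 [0, 12, 20, 24] = true := by decide +kernel

theorem pk238 : PA.pcK J4V.A TK 14 14 11 [0, 2, 10, 18] = true := by decide +kernel

theorem pk239 : PA.pcK J4V.A TK 14 14 12 [0, 12] = true := by decide +kernel

theorem pk240 : PA.pcK J4V.A TK 14 14 13 [0, 12, 16, 24, 26] = true := by decide +kernel

theorem pk241 : PA.pcK J4V.A TK 14 15 0 [0] = true := by decide +kernel

theorem pk242 : PA.pcK J4V.A TK 14 15 1 [2] = true := by decide +kernel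

theorem pk243 : PA.pcK J4V.A TK 14 15 2 [4, 6] = true := by decide +kernel

theorem pk244 : PA.pcK J4V.A TK 14 15 3 [6] = true := by decide +kernel

theorem pk245 : PA.pcK J4V.A TK 14 15 4 [0, 2, 8, 14, 22] = true := by decide +kernel

theorem pk246 : PA.pcK J4V.A TK 14 15 5 [10] = true := by decide +kernel

theorem pk247 : PA.pcK J4V.A TK 14 15 6 [12] = true := by decide +kernel

theorem pk248 : PA.pcK J4V.A TK 14 15 7 [14] = true := by decide +kernel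

theorem pk249 : PA.pcK J4V.A TK 14 15 8 [0, 6, 16, 18] = true := by decide +kernel

theorem pk250 : PA.pcK J4V.A TK 14 15 9 [18] = true := by decide +kernel

theorem pk251 : PA.pcK J4V.A TK 14 15 10 [0, 14, 20] = true := by decide +kernel

theorem pk252 : PA.pcK J4V.A TK 14 15 11 [22] = true := by decide +kernel

theorem pk253 : PA.pcK J4V.A TK 14 15 12 [0, 6, 24] = true := by decide +kernel

theorem pk254 : PA.pcK J4V.A TK 14 15 13 [10, 22, 26] = true := by decide +kernel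

theorem pk255 : PA.pcK J4V.A TK 14 16 0 [0] = true := by decide +kernel

theorem pk256 : PA.pcK J4V.A TK 14 16 1 [0, 2] = true := by decide +kernel

theorem pk257 : PA.pcK J4V.A TK 14 16 2 [0, 4, 6, 8, 10, 18, 20] = true := by decide +kernel

theorem pk258 : PA.pcK J4V.A TK 14 16 3 [2, 10, 14, 18, 22] = true := by decide +kernel

theorem pk259 : PA.pcK J4V.A TK 14 16 4 [2, 16, 18] = true := by decide +kernel

theorem pk260 : PA.pcK J4V.A TK 14 16 5 [0, 10] = true := by decide +kernel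

theorem pk261 : PA.pcK J4V.A TK 14 16 6 [2, 8, 12, 14, 20, 22] = true := by decide +kernel

theorem pk262 : PA.pcK J4V.A TK 14 16 7 [6, 18, 22] = true := by decide +kernel

theorem pk263 : PA.pcK J4V.A TK 14 16 8 [0, 8, 10, 18] = true := by decide +kernel

theorem pk264 : PA.pcK J4V.A TK 14 16 9 [2, 10, 18] = true := by decide +kernel

theorem pk265 : PA.pcK J4V.A TK 14 16 10 [2, 6, 8, 14, 16, 20, 22] = true := by decide +kernel

theorem pk266 : PA.pcK J4V.A TK 14 16 11 [22] = true := by decide +kernel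

theorem pk267 : PA.pcK J4V.A TK 14 16 12 [8, 10, 16, 18, 24] = true := by decide +kernel

theorem pk268 : PA.pcK J4V.A TK 14 16 13 [0, 2, 4, 6, 8, 10, 12, 18, 22, 24, 26] = true := by decide +kernel

theorem pk269 : PA.pcK J4V.A TK 14 17 0 [0] = true := by decide +kernel

theorem pk270 : PA.pcK J4V.A TK 14 17 1 [8, 12, 14, 16, 20, 22, 24] = true := by decide +kernel

theorem pk271 : PA.pcK J4V.A TK 14 17 2 [10, 14, 18] = true := by decide +kernel

theorem pk272 : PA.pcK J4V.A TK 14 17 3 [4, 10, 12, 14, 16, 18] = true := by decide +kernel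

theorem pk273 : PA.pcK J4V.A TK 14 17 4 [14, 22] = true := by decide +kernel

theorem pk274 : PA.pcK J4V.A TK 14 17 5 [4, 8, 18, 22] = true := by decide +kernel

theorem pk275 : PA.pcK J4V.A TK 14 17 6 [2, 8, 14, 16, 20, 22, 24] = true := by decide +kernel

theorem pk276 : PA.pcK J4V.A TK 14 17 7 [4, 8, 10, 14, 18, 22] = true := by decide +kernel

theorem pk277 : PA.pcK J4V.A TK 14 17 8 [0, 2, 4, 6, 8, 10, 16, 18, 20, 22, 24] = true := by decide +kernel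

theorem pk278 : PA.pcK J4V.A TK 14 17 9 [4, 10, 14] = true := by decide +kernel

theorem pk279 : PA.pcK J4V.A TK 14 17 10 [2, 8, 12, 14, 16, 22, 24] = true := by decide +kernel

theorem pk280 : PA.pcK J4V.A TK 14 17 11 [4, 10, 14, 18, 22] = true := by decide +kernel

theorem pk281 : PA.pcK J4V.A TK 14 17 12 [4, 6, 10, 12, 14, 16, 18, 24] = true := by decide +kernel

theorem pk282 : PA.pcK J4V.A TK 14 17 13 [26] = true := by decide +kernel

theorem pk283 : PA.pcK J4V.A TK 14 18 0 [0] = true := by decide +kernel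

theorem pk284 : PA.pcK J4V.A TK 14 18 1 [18] = true := by decide +kernel

theorem pk285 : PA.pcK J4V.A TK 14 18 2 [14, 20] = true := by decide +kernel

theorem pk286 : PA.pcK J4V.A TK 14 18 3 [2] = true := by decide +kernel

theorem pk287 : PA.pcK J4V.A TK 14 18 4 [0, 4, 16, 18] = true := by decide +kernel

theorem pk288 : PA.pcK J4V.A TK 14 18 5 [22] = true := by decide +kernel

theorem pk289 : PA.pcK J4V.A TK 14 18 6 [0, 12, 16, 18, 24] = true := by decide +kernel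

theorem pk290 : PA.pcK J4V.A TK 14 18 7 [0, 2, 6, 14, 22] = true := by decide +kernel

theorem pk291 : PA.pcK J4V.A TK 14 18 8 [6, 16, 18] = true := by decide +kernel

theorem pk292 : PA.pcK J4V.A TK 14 18 9 [6] = true := by decide +kernel

theorem pk293 : PA.pcK J4V.A TK 14 18 10 [2, 6, 8, 14, 16, 18, 22] = true := by decide +kernel

theorem pk294 : PA.pcK J4V.A TK 14 18 11 [0, 10, 22] = true := by decide +kernel

theorem pk295 : PA.pcK J4V.A TK 14 18 12 [0, 12] = true := by decide +kernel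

theorem pk296 : PA.pcK J4V.A TK 14 18 13 [2, 4, 10, 14, 18, 20, 26] = true := by decide +kernel

theorem pk297 : PA.pcK J4V.A TK 14 19 0 [0] = true := by decide +kernel

theorem pk298 : PA.pcK J4V.A TK 14 19 1 [0, 18] = true := by decide +kernel

theorem pk299 : PA.pcK J4V.A TK 14 19 2 [0, 8, 10, 12, 16, 20, 22, 24] = true := by decide +kernel

theorem pk300 : PA.pcK J4V.A TK 14 19 3 [0, 2, 10, 18] = true := by decide +kernel

theorem pk301 : PA.pcK J4V.A TK 14 19 4 [0, 12, 16, 22] = true := by decide +kernel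

theorem pk302 : PA.pcK J4V.A TK 14 19 5 [0, 2, 6, 18] = true := by decide +kernel

theorem pk303 : PA.pcK J4V.A TK 14 19 6 [2, 8, 14, 16, 18, 22, 24] = true := by decide +kernel

theorem pk304 : PA.pcK J4V.A TK 14 19 7 [0, 2, 6, 10, 14, 18] = true := by decide +kernel

theorem pk305 : PA.pcK J4V.A TK 14 19 8 [0, 10, 16, 24] = true := by decide +kernel

theorem pk306 : PA.pcK J4V.A TK 14 19 9 [0, 2] = true := by decide +kernel

theorem pk307 : PA.pcK J4V.A TK 14 19 10 [0, 4, 8, 10, 12, 16, 22, 24] = true := by decide +kernel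

theorem pk308 : PA.pcK J4V.A TK 14 19 11 [2, 10, 14, 18, 22] = true := by decide +kernel

theorem pk309 : PA.pcK J4V.A TK 14 19 12 [0, 2, 6, 10, 18, 24] = true := by decide +kernel

theorem pk310 : PA.pcK J4V.A TK 14 19 13 [27] = true := by decide +kernel

theorem pc311 : PA.pcC J4V.A TK 19 0 [0] = true := by decide +kernel

theorem pc312 : PA.pcC J4V.A TK 19 1 [0, 18] = true := by decide +kernel

theorem pc313 : PA.pcC J4V.A TK 19 2 [0, 8, 10, 12, 16, 20, 22, 24] = true := by decide +kernel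

theorem pc314 : PA.pcC J4V.A TK 19 3 [0, 2, 10, 18] = true := by decide +kernel

theorem pc315 : PA.pcC J4V.A TK 19 4 [0, 12, 16, 22] = true := by decide +kernel

theorem pc316 : PA.pcC J4V.A TK 19 5 [0, 2, 6, 18] = true := by decide +kernel

theorem pc317 : PA.pcC J4V.A TK 19 6 [2, 8, 14, 16, 18, 22, 24] = true := by decide +kernel

theorem pc318 : PA.pcC J4V.A TK 19 7 [0, 2, 6, 10, 14, 18] = true := by decide +kernel

theorem pc319 : PA.pcC J4V.A TK 19 8 [0, 10, 16, 24] = true := by decide +kernel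

theorem pc320 : PA.pcC J4V.A TK 19 9 [0, 2] = true := by decide +kernel

theorem pc321 : PA.pcC J4V.A TK 19 10 [0, 4, 8, 10, 12, 16, 22, 24] = true := by decide +kernel

theorem pc322 : PA.pcC J4V.A TK 19 11 [2, 10, 14, 18, 22] = true := by decide +kernel

theorem pc323 : PA.pcC J4V.A TK 19 12 [0, 2, 6, 10, 18, 24] = true := by decide +kernel

theorem pc324 : PA.pcC J4V.A TK 19 13 [27] = true := by decide +kernel

theorem pc325 : PA.pcC J4V.A TK 19 14 [32] = true := by decide +kernel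

theorem pc326 : PA.pcC J4V.A TK 19 15 [32, 28, 30, 28, 32] = true := by decide +kernel

theorem pc327 : PA.pcC J4V.A TK 19 16 [28] = true := by decide +kernel

theorem pc328 : PA.pcC J4V.A TK 19 17 [34] = true := by decide +kernel

theorem pc329 : PA.pcC J4V.A TK 19 18 [0, 2, 4, 6, 8, 10, 12, 16, 18, 20, 22, 26, 37, 32, 37, 32, 36, 32, 37] = true := by decide +kernel

theorem sw1 : J4G.D.symW 6 [[]] 1 = true := by decide +kernel

theorem w330 : PA.isW J4V.A T4 [6] J4V.gt = true := by decide +kernel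

theorem nm332 : band (PA.can J4V.A Z1) (band (lall (fun w => Nat.beq (PA.mul J4V.A Z1 (PA.evw J4V.A T4 w J4V.A.one)) Z1) SW1) (PA.neq J4V.A (PA.mul J4V.A Z1 (PA.evw J4V.A T4 [4] J4V.A.one)) Z1)) = true := by decide +kernel

theorem c336 : band (lall (fun y => Nat.blt y 6) (lapp [3, 0, 2, 0] (lapp [4] [3, 0, 3, 0, 3, 0, 2, 0, 2, 0, 3, 0, 3, 0, 3, 0, 2, 0, 3, 0, 2, 0, 3, 0, 2, 0, 2, 0, 2, 0, 3, 0, 3, 0, 2, 0, 3, 0, 3, 0, 2, 0, 3, 0, 2, 1, 2, 1, 2, 1, 3, 1, 2, 1, 2, 1, 2, 1, 3, 1, 3, 1, 4, 0, 2, 0, 2, 0, 3, 0, 3, 0, 3, 0, 2, 0, 3, 0, 3, 0]))) (Nat.beq (PA.evw J4V.A T4 [4] (PA.mul J4V.A J4V.gt m334)) (PA.mul J4V.A (PA.mul J4V.A m335 J4V.gt) m334)) = true := by decide +kernel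

theorem w337 : PA.isW J4V.A T4 [3, 0, 2, 0] m334 = true := by decide +kernel

theorem w338 : PA.isW J4V.A T4 [3, 0, 3, 0, 3, 0, 2, 0, 2, 0, 3, 0, 3, 0, 3, 0, 2, 0, 3, 0, 2, 0, 3, 0, 2, 0, 2, 0, 2, 0, 3, 0, 3, 0, 2, 0, 3, 0, 3, 0, 2, 0, 3, 0, 2, 1, 2, 1, 2, 1, 3, 1, 2, 1, 2, 1, 2, 1, 3, 1, 3, 1, 4, 0, 2, 0, 2, 0, 3, 0, 3, 0, 3, 0, 2, 0, 3, 0, 3, 0] m335 = true := by decide +kernel

theorem c342 : band (lall (fun y => Nat.blt y 6) (lapp [3, 0, 3, 0, 2, 0, 2, 0, 3, 0] (lapp [4] [0, 3, 0, 3, 0, 2, 0, 2, 0, 2, 0, 3, 0, 3, 0, 2, 0, 3, 0, 3, 0, 3, 0, 2, 0, 2, 0, 3, 0, 2, 0, 2, 0, 2, 0, 2, 0, 2, 0, 3, 0, 3, 0, 2, 0, 3, 0, 3, 0, 3, 0, 3, 0, 3, 1, 3, 1, 2, 1, 2, 1, 3, 1, 4, 0, 2, 0, 3, 0, 3, 0, 2, 0, 2]))) (Nat.beq (PA.evw J4V.A T4 [4] (PA.mul J4V.A J4V.gt m340)) (PA.mul J4V.A (PA.mul J4V.A m341 J4V.gt) m340)) = true := by decide +kernel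

theorem w343 : PA.isW J4V.A T4 [3, 0, 3, 0, 2, 0, 2, 0, 3, 0] m340 = true := by decide +kernel

theorem w344 : PA.isW J4V.A T4 [0, 3, 0, 3, 0, 2, 0, 2, 0, 2, 0, 3, 0, 3, 0, 2, 0, 3, 0, 3, 0, 3, 0, 2, 0, 2, 0, 3, 0, 2, 0, 2, 0, 2, 0, 2, 0, 2, 0, 3, 0, 3, 0, 2, 0, 3, 0, 3, 0, 3, 0, 3, 0, 3, 1, 3, 1, 2, 1, 2, 1, 3, 1, 4, 0, 2, 0, 3, 0, 3, 0, 2, 0, 2] m341 = true := by decide +kernel

theorem c347 : band (lall (fun y => Nat.blt y 6) (lapp [0, 2, 0, 3, 0, 3, 0, 3, 0, 3] [2, 0, 2, 0, 2, 0, 2, 0, 3, 0])) (Nat.beq (PA.evw J4V.A T4 [2, 0, 2, 0, 2, 0, 2, 0, 3, 0] (PA.mul J4V.A m346 J4V.gt)) m77) = true := by decide +kernel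

theorem w348 : PA.isW J4V.A T4 [0, 2, 0, 3, 0, 3, 0, 3, 0, 3] m346 = true := by decide +kernel

theorem w349 : PA.isW J4V.A TK [34] m77 = true := by decide +kernel

theorem sw4 : J4G.D.symW 6 [[2, 0, 3, 0, 2, 0, 3, 0, 2, 0, 3, 0, 2, 0, 3, 0, 3, 0, 3, 0, 3, 0, 3, 0, 2, 0, 2, 0, 3, 0, 3, 0, 2, 0, 2, 0, 2, 0, 2, 0, 2, 0, 2, 0, 2, 0, 2, 0, 2, 1, 4, 0, 3, 1, 2, 1, 3, 1, 4, 0, 2, 0, 3, 0], []] 4 = true := by decide +kernel

theorem w350 : PA.isW J4V.A T4 [6, 2, 0, 3, 0, 2, 0, 3, 0, 2, 0, 3, 0, 2, 0, 3, 0, 3, 0, 3, 0, 3, 0, 3, 0, 2, 0, 2, 0, 3, 0, 3, 0, 2, 0, 2, 0, 2, 0, 2, 0, 2, 0, 2, 0, 2, 0, 2, 0, 2, 1, 4, 0, 3, 1, 2, 1, 3, 1, 4, 0, 2, 0, 3, 0, 6] x4 = true := by decide +kernel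

theorem nm352 : band (PA.can J4V.A Z4) (band (lall (fun w => Nat.beq (PA.mul J4V.A Z4 (PA.evw J4V.A T4 w J4V.A.one)) Z4) SW4) (PA.neq J4V.A (PA.mul J4V.A Z4 (PA.evw J4V.A T4 [4] J4V.A.one)) Z4)) = true := by decide +kernel

theorem nm354 : band (PA.can J4V.A Z4) (band (lall (fun w => Nat.beq (PA.mul J4V.A Z4 (PA.evw J4V.A T4 w J4V.A.one)) Z4) SW4) (PA.neq J4V.A (PA.mul J4V.A Z4 (PA.evw J4V.A T4 [2, 0, 4, 1, 3] J4V.A.one)) Z4)) = true := by decide +kernel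

theorem c358 : band (lall (fun y => Nat.blt y 6) (lapp [0, 2, 0, 3, 0, 3, 0, 3, 0] (lapp [4] [0, 2, 0, 3, 0, 3, 0, 2, 0, 3, 0, 2, 0, 3, 0, 2, 0, 2, 0, 2, 0, 3, 0, 3, 0, 2, 0, 2, 0, 2, 0, 3, 0, 2, 0, 3, 0, 2, 0, 3, 0, 2, 0, 3, 0, 3, 0, 3, 0, 2, 0, 2, 0, 2, 0, 4, 2, 1, 3, 1, 3, 1, 4, 0, 2, 0, 2, 0, 3]))) (Nat.beq (PA.evw J4V.A T4 [4] (PA.mul J4V.A x4 m356)) (PA.mul J4V.A (PA.mul J4V.A m357 x4) m356)) = true := by decide +kernel

theorem w359 : PA.isW J4V.A T4 [0, 2, 0, 3, 0, 3, 0, 3, 0] m356 = true := by decide +kernel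

theorem w360 : PA.isW J4V.A T4 [0, 2, 0, 3, 0, 3, 0, 2, 0, 3, 0, 2, 0, 3, 0, 2, 0, 2, 0, 2, 0, 3, 0, 3, 0, 2, 0, 2, 0, 2, 0, 3, 0, 2, 0, 3, 0, 2, 0, 3, 0, 2, 0, 3, 0, 3, 0, 3, 0, 2, 0, 2, 0, 2, 0, 4, 2, 1, 3, 1, 3, 1, 4, 0, 2, 0, 2, 0, 3] m357 = true := by decide +kernel

theorem c363 : band (lall (fun y => Nat.blt y 6) (lapp [0, 2, 0, 3, 0, 3, 0, 2, 0, 2, 0, 2, 0, 3, 0, 3] [0, 2, 0, 2, 0, 2, 0, 3, 0, 3, 0, 3, 0])) (Nat.beq (PA.evw J4V.A T4 [0, 2, 0, 2, 0, 2, 0, 3, 0, 3, 0, 3, 0] (PA.mul J4V.A m362 x4)) m1) = true := by decide +kernel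

theorem w364 : PA.isW J4V.A T4 [0, 2, 0, 3, 0, 3, 0, 2, 0, 2, 0, 2, 0, 3, 0, 3] m362 = true := by decide +kernel

theorem w365 : PA.isW J4V.A TK [2, 8, 16, 20, 26, 37, 38, 34, 36, 30, 38, 36, 32, 34] m1 = true := by decide +kernel

theorem sw6 : J4G.D.symW 6 [[0, 3, 0, 2, 0, 2, 0, 2, 0, 3, 0, 3, 0, 3, 0, 3, 0, 2, 0, 2, 0, 2, 0, 3, 0, 2, 0, 2, 0, 2, 0, 2, 0, 2, 0, 3, 0, 3, 0, 3, 0, 2, 0, 3, 0, 3, 0, 3, 0, 2], []] 6 = true := by decide +kernel

theorem w366 : PA.isW J4V.A T4 [6, 0, 3, 0, 2, 0, 2, 0, 2, 0, 3, 0, 3, 0, 3, 0, 3, 0, 2, 0, 2, 0, 2, 0, 3, 0, 2, 0, 2, 0, 2, 0, 2, 0, 2, 0, 3, 0, 3, 0, 3, 0, 2, 0, 3, 0, 3, 0, 3, 0, 2, 6] x6 = true := by decide +kernel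

theorem nm368 : band (PA.can J4V.A Z6) (band (lall (fun w => Nat.beq (PA.mul J4V.A Z6 (PA.evw J4V.A T4 w J4V.A.one)) Z6) SW6) (PA.neq J4V.A (PA.mul J4V.A Z6 (PA.evw J4V.A T4 [4] J4V.A.one)) Z6)) = true := by decide +kernel

theorem nm370 : band (PA.can J4V.A Z6) (band (lall (fun w => Nat.beq (PA.mul J4V.A Z6 (PA.evw J4V.A T4 w J4V.A.one)) Z6) SW6) (PA.neq J4V.A (PA.mul J4V.A Z6 (PA.evw J4V.A T4 [2, 0, 4, 1, 3] J4V.A.one)) Z6)) = true := by decide +kernel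

theorem nm372 : band (PA.can J4V.A Z6) (band (lall (fun w => Nat.beq (PA.mul J4V.A Z6 (PA.evw J4V.A T4 w J4V.A.one)) Z6) SW6) (PA.neq J4V.A (PA.mul J4V.A Z6 (PA.evw J4V.A T4 [2, 0, 3, 0, 4, 1, 2, 1, 3] J4V.A.one)) Z6)) = true := by decide +kernel

theorem nm374 : band (PA.can J4V.A Z6) (band (lall (fun w => Nat.beq (PA.mul J4V.A Z6 (PA.evw J4V.A T4 w J4V.A.one)) Z6) SW6) (PA.neq J4V.A (PA.mul J4V.A Z6 (PA.evw J4V.A T4 [3, 0, 2, 0, 4, 1, 3, 1, 2] J4V.A.one)) Z6)) = true := by decide +kernel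

end Cfsg.Agent.Spor.J4W
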