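import Cfsg.Agent.Spor.J4W.D0

set_option autoImplicit false
set_option maxRecDepth 100000000
set_option Elab.async false

namespace Cfsg.Agent.Spor.J4W

theorem nm376 : band (PA.can J4V.A Z6) (band (lall (fun w => Nat.beq (PA.mul J4V.A Z6 (PA.evw J4V.A T4 w J4V.A.one)) Z6) SW6) (PA.neq J4V.A (PA.mul J4V.A Z6 (PA.evw J4V.A T4 [2, 0, 2, 0, 3, 0, 3, 0, 4, 1, 2, 1, 2, 1, 3, 1, 3] J4V.A.one)) Z6)) = true := by decide +kernel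

theorem nm378 : band (PA.can J4V.A Z6) (band (lall (fun w => Nat.beq (PA.mul J4V.A Z6 (PA.evw J4V.A T4 w J4V.A.one)) Z6) SW6) (PA.neq J4V.A (PA.mul J4V.A Z6 (PA.evw J4V.A T4 [0, 3, 0, 2, 0, 2, 0, 2, 0, 3, 0, 2, 0, 4, 1, 3, 1, 2, 1, 3, 1, 3, 1, 3, 1, 2, 1] J4V.A.one)) Z6)) = true := by decide +kernel

theorem c382 : band (lall (fun y => Nat.blt y 6) (lapp [0, 2, 0, 2, 0, 2, 0, 3, 0, 3, 0, 3, 0] (lapp [4] [0, 2, 0, 2, 0, 2, 0, 3, 0, 2, 0, 2, 0, 2, 0, 3, 0, 3, 0, 2, 0, 3, 0, 2, 0, 3, 0, 3, 0, 3, 0, 3, 0, 2, 0, 2, 0, 2, 0, 3, 0, 3, 0, 3, 0, 3, 0, 2, 0, 2, 1, 2, 1, 3, 1, 3, 1, 3, 1, 2, 1, 2, 1, 3, 1, 4, 0, 2, 0, 3, 0, 3, 0, 2, 0, 2, 0, 2, 0, 3, 0]))) (Nat.beq (PA.evw J4V.A T4 [4] (PA.mul J4V.A x6 m380)) (PA.mul J4V.A (PA.mul J4V.A m381 x6) m380)) = true := by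 decide +kernel

theorem w383 : PA.isW J4V.A T4 [0, 2, 0, 2, 0, 2, 0, 3, 0, 3, 0, 3, 0] m380 = true := by decide +kernel

theorem w384 : PA.isW J4V.A T4 [0, 2, 0, 2, 0, 2, 0, 3, 0, 2, 0, 2, 0, 2, 0, 3, 0, 3, 0, 2, 0, 3, 0, 2, 0, 3, 0, 3, 0, 3, 0, 3, 0, 2, 0, 2, 0, 2, 0, 3, 0, 3, 0, 3, 0, 3, 0, 2, 0, 2, 1, 2, 1, 3, 1, 3, 1, 3, 1, 2, 1, 2, 1, 3, 1, 4, 0, 2, 0, 3, 0, 3, 0, 2, 0, 2, 0, 2, 0, 3, 0] m381 = true := by decide +kernel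

theorem c388 : band (lall (fun y => Nat.blt y 6) (lapp [3, 0, 2, 0, 2, 0, 3, 0, 3, 0, 3, 0, 3, 0, 3, 0] (lapp [4] [0, 2, 0, 3, 0, 2, 0, 2, 0, 2, 0, 3, 0, 3, 0, 2, 0, 3, 0, 2, 0, 3, 0, 2, 0, 3, 0, 2, 0, 3, 0, 2, 0, 2, 0, 3, 0, 3, 0, 3, 0, 3, 0, 3, 0, 2, 0, 3, 0, 3, 0, 2, 1, 2, 1, 3, 1, 3, 1, 2, 1, 2, 1, 2, 1, 3, 1, 2, 1, 4, 0, 3, 0, 2, 0, 3, 0, 3, 0, 3, 0, 2, 0, 2, 0, 3, 0, 3]))) (Nat.beq (PA.evw J4V.A T4 [4] (PA.mul J4V.A x6 m386)) (PA.mul J4V.A (PA.mul J4V.A m387 x6) m386)) = true := by decide +kernel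

theorem w389 : PA.isW J4V.A T4 [3, 0, 2, 0, 2, 0, 3, 0, 3, 0, 3, 0, 3, 0, 3, 0] m386 = true := by decide +kernel

theorem w390 : PA.isW J4V.A T4 [0, 2, 0, 3, 0, 2, 0, 2, 0, 2, 0, 3, 0, 3, 0, 2, 0, 3, 0, 2, 0, 3, 0, 2, 0, 3, 0, 2, 0, 3, 0, 2, 0, 2, 0, 3, 0, 3, 0, 3, 0, 3, 0, 3, 0, 2, 0, 3, 0, 3, 0, 2, 1, 2, 1, 3, 1, 3, 1, 2, 1, 2, 1, 2, 1, 3, 1, 2, 1, 4, 0, 3, 0, 2, 0, 3, 0, 3, 0, 3, 0, 2, 0, 2, 0, 3, 0, 3] m387 = true := by decide +kernel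

theorem sw7 : J4G.D.symW 6 [[0, 3, 0, 2, 0, 2, 0, 3, 0, 3, 0, 3, 0, 2, 0, 2, 0, 2, 0, 2, 0, 2, 0, 3, 0, 3, 0, 2, 0, 3, 0, 3, 0, 3, 0, 3, 0, 3, 0, 3, 0, 2, 0, 3, 0, 2, 0, 3, 0, 2], []] 7 = true := by decide +kernel

theorem w391 : PA.isW J4V.A T4 [6, 0, 3, 0, 2, 0, 2, 0, 3, 0, 3, 0, 3, 0, 2, 0, 2, 0, 2, 0, 2, 0, 2, 0, 3, 0, 3, 0, 2, 0, 3, 0, 3, 0, 3, 0, 3, 0, 3, 0, 3, 0, 2, 0, 3, 0, 2, 0, 3, 0, 2, 6] x7 = true := by decide +kernel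

theorem nm393 : band (PA.can J4V.A Z7) (band (lall (fun w => Nat.beq (PA.mul J4V.A Z7 (PA.evw J4V.A T4 w J4V.A.one)) Z7) SW7) (PA.neq J4V.A (PA.mul J4V.A Z7 (PA.evw J4V.A T4 [4] J4V.A.one)) Z7)) = true := by decide +kernel

theorem nm395 : band (PA.can J4V.A Z7) (band (lall (fun w => Nat.beq (PA.mul J4V.A Z7 (PA.evw J4V.A T4 w J4V.A.one)) Z7) SW7) (PA.neq J4V.A (PA.mul J4V.A Z7 (PA.evw J4V.A T4 [3, 0, 4, 1, 2] J4V.A.one)) Z7)) = true := by decide +kernel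

theorem nm397 : band (PA.can J4V.A Z7) (band (lall (fun w => Nat.beq (PA.mul J4V.A Z7 (PA.evw J4V.A T4 w J4V.A.one)) Z7) SW7) (PA.neq J4V.A (PA.mul J4V.A Z7 (PA.evw J4V.A T4 [0, 2, 0, 4, 1, 3, 1] J4V.A.one)) Z7)) = true := by decide +kernel

theorem nm399 : band (PA.can J4V.A Z7) (band (lall (fun w => Nat.beq (PA.mul J4V.A Z7 (PA.evw J4V.A T4 w J4V.A.one)) Z7) SW7) (PA.neq J4V.A (PA.mul J4V.A Z7 (PA.evw J4V.A T4 [2, 0, 3, 0, 3, 0, 3, 0, 4, 1, 2, 1, 2, 1, 2, 1, 3] J4V.A.one)) Z7)) = true := by decide +kernel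

theorem nm401 : band (PA.can J4V.A Z7) (band (lall (fun w => Nat.beq (PA.mul J4V.A Z7 (PA.evw J4V.A T4 w J4V.A.one)) Z7) SW7) (PA.neq J4V.A (PA.mul J4V.A Z7 (PA.evw J4V.A T4 [3, 0, 3, 0, 2, 0, 3, 0, 3, 0, 3, 0, 4, 1, 2, 1, 2, 1, 2, 1, 3, 1, 2, 1, 2] J4V.A.one)) Z7)) = true := by decide +kernel

theorem nm403 : band (PA.can J4V.A Z7) (band (lall (fun w => Nat.beq (PA.mul J4V.A Z7 (PA.evw J4V.A T4 w J4V.A.one)) Z7) SW7) (PA.neq J4V.A (PA.mul J4V.A Z7 (PA.evw J4V.A T4 [2, 0, 2, 0, 2, 0, 2, 0, 3, 0, 4, 1, 2, 1, 3, 1, 3, 1, 3, 1, 3] J4V.A.one)) Z7)) = true := by decide +kernel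

theorem c407 : band (lall (fun y => Nat.blt y 6) (lapp [2, 0, 2, 0, 2, 0, 3, 0, 3, 0, 3, 0] (lapp [4] [0, 2, 0, 3, 0, 2, 0, 3, 0, 3, 0, 2, 0, 3, 0, 2, 0, 2, 0, 3, 0, 2, 0, 3, 0, 2, 0, 3, 0, 3, 0, 3, 0, 3, 0, 2, 0, 2, 0, 3, 0, 3, 0, 2, 0, 2, 0, 3, 0, 2, 0, 2, 2, 1, 3, 1, 3, 1, 3, 1, 2, 1, 4, 0, 3, 0, 2, 0, 2, 0, 2, 0, 3]))) (Nat.beq (PA.evw J4V.A T4 [4] (PA.mul J4V.A x7 m405)) (PA.mul J4V.A (PA.mul J4V.A m406 x7) m405)) = true := by decide +kernel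

theorem w408 : PA.isW J4V.A T4 [2, 0, 2, 0, 2, 0, 3, 0, 3, 0, 3, 0] m405 = true := by decide +kernel

theorem w409 : PA.isW J4V.A T4 [0, 2, 0, 3, 0, 2, 0, 3, 0, 3, 0, 2, 0, 3, 0, 2, 0, 2, 0, 3, 0, 2, 0, 3, 0, 2, 0, 3, 0, 3, 0, 3, 0, 3, 0, 2, 0, 2, 0, 3, 0, 3, 0, 2, 0, 2, 0, 3, 0, 2, 0, 2, 2, 1, 3, 1, 3, 1, 3, 1, 2, 1, 4, 0, 3, 0, 2, 0, 2, 0, 2, 0, 3] m406 = true := by decide +kernel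

theorem sw10 : J4G.D.symW 6 [[2, 0, 3, 0, 2, 0, 3, 0, 2, 0, 3, 0, 2, 0, 3, 0, 3, 0, 3, 0, 3, 0, 3, 0, 2, 0, 2, 0, 3, 0, 3, 0, 2, 0, 2, 0, 2, 0, 2, 0, 2, 0, 2, 0, 2, 0, 2, 0, 2, 1, 4, 0, 3, 1, 2, 1, 3, 1, 4, 0, 2, 0, 3, 0], [0, 3, 0, 2, 0, 2, 0, 2, 0, 3, 0, 3, 0, 3, 0, 3, 0, 2, 0, 2, 0, 2, 0, 3, 0, 2, 0, 2, 0, 2, 0, 2, 0, 2, 0, 3, 0, 3, 0, 3, 0, 2, 0, 3, 0, 3, 0, 3, 0, 2], []] 10 = true := by decide +kernel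

theorem w410 : PA.isW J4V.A T4 [6, 0, 3, 0, 2, 0, 2, 0, 2, 0, 3, 0, 3, 0, 3, 0, 3, 0, 2, 0, 2, 0, 2, 0, 3, 0, 2, 0, 2, 0, 2, 0, 2, 0, 2, 0, 3, 0, 3, 0, 3, 0, 2, 0, 3, 0, 3, 0, 3, 0, 2, 6, 2, 0, 3, 0, 2, 0, 3, 0, 2, 0, 3, 0, 2, 0, 3, 0, 3, 0, 3, 0, 3, 0, 3, 0, 2, 0, 2, 0, 3, 0, 3, 0, 2, 0, 2, 0, 2, 0, 2, 0, 2, 0, 2, 0, 2, 0, 2, 0, 2, 1, 4, 0, 3, 1, 2, 1, 3, 1, 4, 0, 2, 0, 3, 0, 6] x10 = true := by decide +kernel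

theorem nm412 : band (PA.can J4V.A Z10) (band (lall (fun w => Nat.beq (PA.mul J4V.A Z10 (PA.evw J4V.A T4 w J4V.A.one)) Z10) SW10) (PA.neq J4V.A (PA.mul J4V.A Z10 (PA.evw J4V.A T4 [4] J4V.A.one)) Z10)) = true := by decide +kernel

theorem nm414 : band (PA.can J4V.A Z10) (band (lall (fun w => Nat.beq (PA.mul J4V.A Z10 (PA.evw J4V.A T4 w J4V.A.one)) Z10) SW10) (PA.neq J4V.A (PA.mul J4V.A Z10 (PA.evw J4V.A T4 [3, 0, 4, 1, 2] J4V.A.one)) Z10)) = true := by decide +kernel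

theorem nm416 : band (PA.can J4V.A Z10) (band (lall (fun w => Nat.beq (PA.mul J4V.A Z10 (PA.evw J4V.A T4 w J4V.A.one)) Z10) SW10) (PA.neq J4V.A (PA.mul J4V.A Z10 (PA.evw J4V.A T4 [3, 0, 2, 0, 4, 1, 3, 1, 2] J4V.A.one)) Z10)) = true := by decide +kernel

theorem nm418 : band (PA.can J4V.A Z10) (band (lall (fun w => Nat.beq (PA.mul J4V.A Z10 (PA.evw J4V.A T4 w J4V.A.one)) Z10) SW10) (PA.neq J4V.A (PA.mul J4V.A Z10 (PA.evw J4V.A T4 [2, 0, 3, 0, 3, 0, 3, 0, 4, 1, 2, 1, 2, 1, 2, 1, 3] J4V.A.one)) Z10)) = true := by decide +kernel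

theorem nm420 : band (PA.can J4V.A Z10) (band (lall (fun w => Nat.beq (PA.mul J4V.A Z10 (PA.evw J4V.A T4 w J4V.A.one)) Z10) SW10) (PA.neq J4V.A (PA.mul J4V.A Z10 (PA.evw J4V.A T4 [3, 0, 3, 0, 2, 0, 2, 0, 3, 0, 4, 1, 2, 1, 3, 1, 3, 1, 2, 1, 2] J4V.A.one)) Z10)) = true := by decide +kernel

theorem nm422 : band (PA.can J4V.A Z10) (band (lall (fun w => Nat.beq (PA.mul J4V.A Z10 (PA.evw J4V.A T4 w J4V.A.one)) Z10) SW10) (PA.neq J4V.A (PA.mul J4V.A Z10 (PA.evw J4V.A T4 [3, 0, 3, 0, 2, 0, 3, 0, 3, 0, 3, 0, 4, 1, 2, 1, 2, 1, 2, 1, 3, 1, 2, 1, 2] J4V.A.one)) Z10)) = true := by decide +kernel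

theorem nm424 : band (PA.can J4V.A Z10) (band (lall (fun w => Nat.beq (PA.mul J4V.A Z10 (PA.evw J4V.A T4 w J4V.A.one)) Z10) SW10) (PA.neq J4V.A (PA.mul J4V.A Z10 (PA.evw J4V.A T4 [2, 0, 2, 0, 2, 0, 2, 0, 3, 0, 4, 1, 2, 1, 3, 1, 3, 1, 3, 1, 3] J4V.A.one)) Z10)) = true := by decide +kernel

theorem nm426 : band (PA.can J4V.A Z10) (band (lall (fun w => Nat.beq (PA.mul J4V.A Z10 (PA.evw J4V.A T4 w J4V.A.one)) Z10) SW10) (PA.neq J4V.A (PA.mul J4V.A Z10 (PA.evw J4V.A T4 [3, 0, 3, 0, 3, 0, 2, 0, 3, 0, 2, 0, 3, 0, 4, 1, 2, 1, 3, 1, 2, 1, 3, 1, 2, 1, 2, 1, 2] J4V.A.one)) Z10)) = true := by decide +kernel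

theorem sw12 : J4G.D.symW 6 [[0, 3, 0, 3, 0, 2, 0, 2, 0, 2, 0, 2, 0, 3, 0, 2, 0, 2, 0, 2, 0, 2, 0, 3, 0, 3, 0, 3, 0, 2, 0, 3, 0, 3, 0, 3, 0, 3, 0, 3, 0, 3], [0, 3, 0, 2, 0, 2, 0, 2, 0, 3, 0, 3, 0, 3, 0, 3, 0, 2, 0, 2, 0, 2, 0, 3, 0, 2, 0, 2, 0, 2, 0, 2, 0, 2, 0, 3, 0, 3, 0, 3, 0, 2, 0, 3, 0, 3, 0, 3, 0, 2], []] 12 = true := by decide +kernel

theorem w427 : PA.isW J4V.A T4 [6, 0, 3, 0, 2, 0, 2, 0, 2, 0, 3, 0, 3, 0, 3, 0, 3, 0, 2, 0, 2, 0, 2, 0, 3, 0, 2, 0, 2, 0, 2, 0, 2, 0, 2, 0, 3, 0, 3, 0, 3, 0, 2, 0, 3, 0, 3, 0, 3, 0, 2, 6, 0, 3, 0, 3, 0, 2, 0, 2, 0, 2, 0, 2, 0, 3, 0, 2, 0, 2, 0, 2, 0, 2, 0, 3, 0, 3, 0, 3, 0, 2, 0, 3, 0, 3, 0, 3, 0, 3, 0, 3, 0, 3, 6] x12 = true := by decide +kernel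

theorem nm429 : band (PA.can J4V.A Z12) (band (lall (fun w => Nat.beq (PA.mul J4V.A Z12 (PA.evw J4V.A T4 w J4V.A.one)) Z12) SW12) (PA.neq J4V.A (PA.mul J4V.A Z12 (PA.evw J4V.A T4 [4] J4V.A.one)) Z12)) = true := by decide +kernel

theorem nm431 : band (PA.can J4V.A Z12) (band (lall (fun w => Nat.beq (PA.mul J4V.A Z12 (PA.evw J4V.A T4 w J4V.A.one)) Z12) SW12) (PA.neq J4V.A (PA.mul J4V.A Z12 (PA.evw J4V.A T4 [3, 0, 4, 1, 2] J4V.A.one)) Z12)) = true := by decide +kernel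

theorem nm433 : band (PA.can J4V.A Z12) (band (lall (fun w => Nat.beq (PA.mul J4V.A Z12 (PA.evw J4V.A T4 w J4V.A.one)) Z12) SW12) (PA.neq J4V.A (PA.mul J4V.A Z12 (PA.evw J4V.A T4 [0, 3, 0, 4, 1, 2, 1] J4V.A.one)) Z12)) = true := by decide +kernel

theorem nm435 : band (PA.can J4V.A Z12) (band (lall (fun w => Nat.beq (PA.mul J4V.A Z12 (PA.evw J4V.A T4 w J4V.A.one)) Z12) SW12) (PA.neq J4V.A (PA.mul J4V.A Z12 (PA.evw J4V.A T4 [0, 2, 0, 4, 1, 3, 1] J4V.A.one)) Z12)) = true := by decide +kernel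

theorem c1 : lall (fun w => Nat.beq (PA.evw J4G.A J4G.TT (lapp w [4]) J4G.A.one) (PA.evw J4G.A J4G.TT (lapp [4] w) J4G.A.one)) [[2], [0, 2, 0, 3, 0, 3, 0, 3, 0, 3, 0, 2, 0, 2, 0, 2, 0, 2, 0, 3, 0], [0, 2, 0, 3, 0, 3, 0, 3, 0, 2, 0, 3, 0, 2, 0, 2, 0, 2, 0, 3, 0], [0, 4, 0]] = true := by decide +kernel

theorem c2 : PA.neq J4G.A (PA.evw J4G.A J4G.TT (lapp [0] [4]) J4G.A.one) (PA.evw J4G.A J4G.TT (lapp [4] [0]) J4G.A.one) = true := by decide +kernel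

end Cfsg.Agent.Spor.J4W
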