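import Cfsg.Agent.Spor.PX15
import Cfsg.Agent.Spor.J4Z
import Cfsg.Agent.Spor.J4ma.Grp
import Cfsg.Agent.Spor.J4T.Z.Main
import Cfsg.Agent.Spor.J4W.C0
import Cfsg.Agent.Spor.J4W.C1

set_option autoImplicit false
set_option maxRecDepth 100000000
set_option Elab.async false

namespace Cfsg.Agent.Spor.J4W

noncomputable abbrev g4 : ℕ → J4V.H := wv 3 J4V.h J4C.WD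
theorem gT4 : J4V.X.Gens T4 (atm 4 g4) := J4V.gens.words T4ok tw
noncomputable abbrev Y : DCtx J4G.D (ZMod 2) J4N.P J4V.H := J4C2.Y J4L.pres2
noncomputable abbrev z : J4N.P := ev (atm 3 J4N.p) [4]
theorem hM3 : J4V.X.M m1 := (gT4.isW w2).1
theorem hM6 : J4V.X.M m4 := (MRep.M.inv hM3 iv5).1
theorem hM9 : J4V.X.M m7 := (gT4.isW w8).1
theorem hM12 : J4V.X.M m10 := (gT4.isW w11).1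
theorem hM15 : J4V.X.M m13 := MRep.M.of_prod (L := [m4, m10, m1]) (AllP.cons hM6 (AllP.cons hM12 (AllP.cons hM3 (AllP.nil)))) pr14
theorem hM18 : J4V.X.M m16 := (gT4.isW w17).1
theorem hM21 : J4V.X.M m19 := (gT4.isW w20).1
theorem hM24 : J4V.X.M m22 := MRep.M.of_prod (L := [m4, m19, m1]) (AllP.cons hM6 (AllP.cons hM21 (AllP.cons hM3 (AllP.nil)))) pr23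
theorem hM27 : J4V.X.M m25 := (gT4.isW w26).1
theorem hM30 : J4V.X.M m28 := (gT4.isW w29).1
theorem hM33 : J4V.X.M m31 := MRep.M.of_prod (L := [m4, m28, m1]) (AllP.cons hM6 (AllP.cons hM30 (AllP.cons hM3 (AllP.nil)))) pr32
theorem hM36 : J4V.X.M m34 := (gT4.isW w35).1
theorem hM39 : J4V.X.M m37 := (gT4.isW w38).1
theorem hM42 : J4V.X.M m40 := MRep.M.of_prod (L := [m4, m37, m1]) (AllP.cons hM6 (AllP.cons hM39 (AllP.cons hM3 (AllP.nil)))) pr41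
theorem hM45 : J4V.X.M m43 := (gT4.isW w44).1
theorem hM48 : J4V.X.M m46 := (gT4.isW w47).1
theorem hM51 : J4V.X.M m49 := MRep.M.of_prod (L := [m4, m46, m1]) (AllP.cons hM6 (AllP.cons hM48 (AllP.cons hM3 (AllP.nil)))) pr50
theorem hM54 : J4V.X.M m52 := (gT4.isW w53).1
theorem hM57 : J4V.X.M m55 := (gT4.isW w56).1
theorem hM60 : J4V.X.M m58 := MRep.M.of_prod (L := [m4, m55, m1]) (AllP.cons hM6 (AllP.cons hM57 (AllP.cons hM3 (AllP.nil)))) pr59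
theorem hM63 : J4V.X.M m61 := (gT4.isW w62).1
theorem hM67 : J4V.X.M m65 := (gT4.isW w66).1
theorem hM70 : J4V.X.M m68 := (gT4.isW w69).1
theorem hM73 : J4V.X.M m71 := (gT4.isW w72).1
theorem hM76 : J4V.X.M m74 := MRep.M.of_prod (L := [m65, m68, m65]) (AllP.cons hM67 (AllP.cons hM70 (AllP.cons hM67 (AllP.nil)))) pr75
theorem hM79 : J4V.X.M m77 := (gT4.isW w78).1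
theorem gTK : J4V.X.Gens TK (atm 20 (J4V.X.gen TK)) :=
  MRep.Gens.of_M TKok (MRep.allM (L := [ge, m7, m13, m16, m22, m25, m31, m34, m40, m43, m49, m52, m58, m61, m68, m71, m74, m77, J4V.gy, m65]) (AllP.cons (gT4 5).1 (AllP.cons hM9 (AllP.cons hM15 (AllP.cons hM18 (AllP.cons hM24 (AllP.cons hM27 (AllP.cons hM33 (AllP.cons hM36 (AllP.cons hM42 (AllP.cons hM45 (AllP.cons hM51 (AllP.cons hM54 (AllP.cons hM60 (AllP.cons hM63 (AllP.cons hM70 (AllP.cons hM73 (AllP.cons hM76 (AllP.cons hM79 (AllP.cons (gT4 2).1 (AllP.cons hM67 (AllP.nil))))))))))))))))))))) rfl)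

noncomputable abbrev g : ℕ → J4V.H := J4V.X.gen TK
noncomputable abbrev F : ℕ → J4V.H := fun j => g (14 + j)
theorem gTQ : J4V.X.Gens TQ (atm 13 g) := gTK.pre TQok (by decide) pTQ
theorem gTN : J4V.X.Gens TN (atm 14 g) := gTK.pre TNok (by decide) pTN
theorem gTF : J4V.X.Gens TF (atm 5 F) := gTK.shift TFok (by decide) pTF
theorem hM122 : J4V.X.M gF := (gTF.isW w121).1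
theorem ordF : orderOf (ev (atm 5 F) [0, 2, 4, 6, 0, 2, 4, 6, 0, 2, 4, 6]) = 11 :=
  (gTF.isW w121).2 ▸ (gTF.isW w121).1.ord (by norm_num) oF

theorem xs : PC g 13 (2 ^ 13) ∧ IsExtraspecial 2 (gsub 13 g) :=
  MRep.Gens.xs (k := 6) gTQ (by decide) q0
    (show AllP (fun i => PA.isW J4V.A TQ [2 * i, 2 * i] J4V.A.one = true) [0, 1, 2, 3, 4, 5, 6, 7, 8, 9, 10, 11, 12] from AllP.cons q81 (AllP.cons q82 (AllP.cons q83 (AllP.cons q84 (AllP.cons q85 (AllP.cons q86 (AllP.cons q87 (AllP.cons q88 (AllP.cons q89 (AllP.cons q90 (AllP.cons q91 (AllP.cons q92 (AllP.cons q93 (AllP.nil))))))))))))))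
    (show AllP (fun i => allN (fun j => Nat.beq (PA.evw J4V.A TQ [2 * i, 2 * j] J4V.A.one)
      (PA.evw J4V.A TQ (lapp (Bool.rec [] [0] (xpr i j)) [2 * j, 2 * i]) J4V.A.one)) i = true) [0, 1, 2, 3, 4, 5, 6, 7, 8, 9, 10, 11, 12] from AllP.cons q94 (AllP.cons q95 (AllP.cons q96 (AllP.cons q97 (AllP.cons q98 (AllP.cons q99 (AllP.cons q100 (AllP.cons q101 (AllP.cons q102 (AllP.cons q103 (AllP.cons q104 (AllP.cons q105 (AllP.cons q106 (AllP.nil))))))))))))))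

theorem pcN : PC g 14 (3 * 2 ^ 13) :=
  gTK.pc xs.1 (by decide) Nat.prime_three
    (show AllP (fun j => ∃ w, PA.pcC J4V.A TK 13 j w = true) [0, 1, 2, 3, 4, 5, 6, 7, 8, 9, 10, 11, 12] from AllP.cons ⟨_, pc123⟩ (AllP.cons ⟨_, pc124⟩ (AllP.cons ⟨_, pc125⟩ (AllP.cons ⟨_, pc126⟩ (AllP.cons ⟨_, pc127⟩ (AllP.cons ⟨_, pc128⟩ (AllP.cons ⟨_, pc129⟩ (AllP.cons ⟨_, pc130⟩ (AllP.cons ⟨_, pc131⟩ (AllP.cons ⟨_, pc132⟩ (AllP.cons ⟨_, pc133⟩ (AllP.cons ⟨_, pc134⟩ (AllP.cons ⟨_, pc135⟩ (AllP.nil)))))))))))))) p13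
    (not_mem_of_ord (gTK.ord_at (by decide) Nat.prime_three o13) xs.1.1 (by norm_num))

theorem nQ : gsub 20 g ≤ Subgroup.normalizer (gsub 13 g : Set J4V.H) :=
  gTK.le_norm xs.1 (by decide) (show AllP (fun i => AllP (fun j => ∃ w, PA.pcK J4V.A TK 13 i j w = true)
    [0, 1, 2, 3, 4, 5, 6, 7, 8, 9, 10, 11, 12]) [13, 14, 15, 16, 17, 18, 19] from AllP.cons (AllP.cons ⟨_, pk136⟩ (AllP.cons ⟨_, pk137⟩ (AllP.cons ⟨_, pk138⟩ (AllP.cons ⟨_, pk139⟩ (AllP.cons ⟨_, pk140⟩ (AllP.cons ⟨_, pk141⟩ (AllP.cons ⟨_, pk142⟩ (AllP.cons ⟨_, pk143⟩ (AllP.cons ⟨_, pk144⟩ (AllP.cons ⟨_, pk145⟩ (AllP.cons ⟨_, pk146⟩ (AllP.cons ⟨_, pk147⟩ (AllP.cons ⟨_, pk148⟩ (AllP.nil)))))))))))))) (AllP.cons (AllP.cons ⟨_, pk149⟩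 (AllP.cons ⟨_, pk150⟩ (AllP.cons ⟨_, pk151⟩ (AllP.cons ⟨_, pk152⟩ (AllP.cons ⟨_, pk153⟩ (AllP.cons ⟨_, pk154⟩ (AllP.cons ⟨_, pk155⟩ (AllP.cons ⟨_, pk156⟩ (AllP.cons ⟨_, pk157⟩ (AllP.cons ⟨_, pk158⟩ (AllP.cons ⟨_, pk159⟩ (AllP.cons ⟨_, pk160⟩ (AllP.cons ⟨_, pk161⟩ (AllP.nil)))))))))))))) (AllP.cons (AllP.cons ⟨_, pk162⟩ (AllP.cons ⟨_, pk163⟩ (AllP.cons ⟨_, pk164⟩ (AllP.cons ⟨_, pk165⟩ (AllP.cons ⟨_, pk166⟩ (AllP.cons ⟨_, pk167⟩ (AllP.cons ⟨_, pk168⟩ (AllP.cons ⟨_, pk169⟩ (AllP.cons ⟨_, pk170⟩ (AllP.cons ⟨_, pk171⟩ (AllP.cons ⟨_, pk172⟩ (AllP.cons ⟨_, pk173⟩ (AllP.cons ⟨_, pk174⟩ (AllP.nil)))))))))))))) (AllP.cons (AllP.cons ⟨_, pk175⟩ (AllP.cons ⟨_, pk176⟩ (AllP.cons ⟨_, pk177⟩ (AllP.cons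 ⟨_, pk178⟩ (AllP.cons ⟨_, pk179⟩ (AllP.cons ⟨_, pk180⟩ (AllP.cons ⟨_, pk181⟩ (AllP.cons ⟨_, pk182⟩ (AllP.cons ⟨_, pk183⟩ (AllP.cons ⟨_, pk184⟩ (AllP.cons ⟨_, pk185⟩ (AllP.cons ⟨_, pk186⟩ (AllP.cons ⟨_, pk187⟩ (AllP.nil)))))))))))))) (AllP.cons (AllP.cons ⟨_, pk188⟩ (AllP.cons ⟨_, pk189⟩ (AllP.cons ⟨_, pk190⟩ (AllP.cons ⟨_, pk191⟩ (AllP.cons ⟨_, pk192⟩ (AllP.cons ⟨_, pk193⟩ (AllP.cons ⟨_, pk194⟩ (AllP.cons ⟨_, pk195⟩ (AllP.cons ⟨_, pk196⟩ (AllP.cons ⟨_, pk197⟩ (AllP.cons ⟨_, pk198⟩ (AllP.cons ⟨_, pk199⟩ (AllP.cons ⟨_, pk200⟩ (AllP.nil)))))))))))))) (AllP.cons (AllP.cons ⟨_, pk201⟩ (AllP.cons ⟨_, pk202⟩ (AllP.cons ⟨_, pk203⟩ (AllP.cons ⟨_, pk204⟩ (AllP.cons ⟨_, pk205⟩ (AllP.cons ⟨_, pk206⟩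 (AllP.cons ⟨_, pk207⟩ (AllP.cons ⟨_, pk208⟩ (AllP.cons ⟨_, pk209⟩ (AllP.cons ⟨_, pk210⟩ (AllP.cons ⟨_, pk211⟩ (AllP.cons ⟨_, pk212⟩ (AllP.cons ⟨_, pk213⟩ (AllP.nil)))))))))))))) (AllP.cons (AllP.cons ⟨_, pk214⟩ (AllP.cons ⟨_, pk215⟩ (AllP.cons ⟨_, pk216⟩ (AllP.cons ⟨_, pk217⟩ (AllP.cons ⟨_, pk218⟩ (AllP.cons ⟨_, pk219⟩ (AllP.cons ⟨_, pk220⟩ (AllP.cons ⟨_, pk221⟩ (AllP.cons ⟨_, pk222⟩ (AllP.cons ⟨_, pk223⟩ (AllP.cons ⟨_, pk224⟩ (AllP.cons ⟨_, pk225⟩ (AllP.cons ⟨_, pk226⟩ (AllP.nil)))))))))))))) (AllP.nil))))))))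

theorem nN : gsub 20 g ≤ Subgroup.normalizer (gsub 14 g : Set J4V.H) :=
  gTK.le_norm pcN (by decide) (show AllP (fun i => AllP (fun j => ∃ w, PA.pcK J4V.A TK 14 i j w = true)
    [0, 1, 2, 3, 4, 5, 6, 7, 8, 9, 10, 11, 12, 13]) [14, 15, 16, 17, 18, 19] from AllP.cons (AllP.cons ⟨_, pk227⟩ (AllP.cons ⟨_, pk228⟩ (AllP.cons ⟨_, pk229⟩ (AllP.cons ⟨_, pk230⟩ (AllP.cons ⟨_, pk231⟩ (AllP.cons ⟨_, pk232⟩ (AllP.cons ⟨_, pk233⟩ (AllP.cons ⟨_, pk234⟩ (AllP.cons ⟨_, pk235⟩ (AllP.cons ⟨_, pk236⟩ (AllP.cons ⟨_, pk237⟩ (AllP.cons ⟨_, pk238⟩ (AllP.cons ⟨_, pk239⟩ (AllP.cons ⟨_, pk240⟩ (AllP.nil))))))))))))))) (AllP.cons (AllP.cons ⟨_, pk241⟩ (AllP.cons ⟨_, pk242⟩ (AllP.cons ⟨_, pk243⟩ (AllP.cons ⟨_, pk244⟩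 (AllP.cons ⟨_, pk245⟩ (AllP.cons ⟨_, pk246⟩ (AllP.cons ⟨_, pk247⟩ (AllP.cons ⟨_, pk248⟩ (AllP.cons ⟨_, pk249⟩ (AllP.cons ⟨_, pk250⟩ (AllP.cons ⟨_, pk251⟩ (AllP.cons ⟨_, pk252⟩ (AllP.cons ⟨_, pk253⟩ (AllP.cons ⟨_, pk254⟩ (AllP.nil))))))))))))))) (AllP.cons (AllP.cons ⟨_, pk255⟩ (AllP.cons ⟨_, pk256⟩ (AllP.cons ⟨_, pk257⟩ (AllP.cons ⟨_, pk258⟩ (AllP.cons ⟨_, pk259⟩ (AllP.cons ⟨_, pk260⟩ (AllP.cons ⟨_, pk261⟩ (AllP.cons ⟨_, pk262⟩ (AllP.cons ⟨_, pk263⟩ (AllP.cons ⟨_, pk264⟩ (AllP.cons ⟨_, pk265⟩ (AllP.cons ⟨_, pk266⟩ (AllP.cons ⟨_, pk267⟩ (AllP.cons ⟨_, pk268⟩ (AllP.nil))))))))))))))) (AllP.cons (AllP.cons ⟨_, pk269⟩ (AllP.cons ⟨_, pk270⟩ (AllP.cons ⟨_, pk271⟩ (AllP.cons ⟨_, pk272⟩ (AllP.cons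 ⟨_, pk273⟩ (AllP.cons ⟨_, pk274⟩ (AllP.cons ⟨_, pk275⟩ (AllP.cons ⟨_, pk276⟩ (AllP.cons ⟨_, pk277⟩ (AllP.cons ⟨_, pk278⟩ (AllP.cons ⟨_, pk279⟩ (AllP.cons ⟨_, pk280⟩ (AllP.cons ⟨_, pk281⟩ (AllP.cons ⟨_, pk282⟩ (AllP.nil))))))))))))))) (AllP.cons (AllP.cons ⟨_, pk283⟩ (AllP.cons ⟨_, pk284⟩ (AllP.cons ⟨_, pk285⟩ (AllP.cons ⟨_, pk286⟩ (AllP.cons ⟨_, pk287⟩ (AllP.cons ⟨_, pk288⟩ (AllP.cons ⟨_, pk289⟩ (AllP.cons ⟨_, pk290⟩ (AllP.cons ⟨_, pk291⟩ (AllP.cons ⟨_, pk292⟩ (AllP.cons ⟨_, pk293⟩ (AllP.cons ⟨_, pk294⟩ (AllP.cons ⟨_, pk295⟩ (AllP.cons ⟨_, pk296⟩ (AllP.nil))))))))))))))) (AllP.cons (AllP.cons ⟨_, pk297⟩ (AllP.cons ⟨_, pk298⟩ (AllP.cons ⟨_, pk299⟩ (AllP.cons ⟨_, pk300⟩ (AllP.cons ⟨_, pk301⟩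 (AllP.cons ⟨_, pk302⟩ (AllP.cons ⟨_, pk303⟩ (AllP.cons ⟨_, pk304⟩ (AllP.cons ⟨_, pk305⟩ (AllP.cons ⟨_, pk306⟩ (AllP.cons ⟨_, pk307⟩ (AllP.cons ⟨_, pk308⟩ (AllP.cons ⟨_, pk309⟩ (AllP.cons ⟨_, pk310⟩ (AllP.nil))))))))))))))) (AllP.nil)))))))

theorem rel : ∀ l ∈ [[0, 0], [2, 2], [4, 4], [6, 6], [8, 8, 8], [8, 0, 8, 0], [8, 4, 8, 4, 8, 4, 8, 4, 8, 4], [8, 4, 9, 4, 0, 4, 8, 4, 9, 0, 4, 0], [0, 8, 2, 9, 2, 0, 2], [4, 9, 4, 2, 4, 8, 4, 2], [4, 0, 2, 4, 0, 2, 4, 0, 2], [0, 9, 6, 8, 0, 6], [0, 2, 4, 2, 4, 0, 6, 0, 2, 4, 2, 0, 6], [8, 6, 9, 4, 9, 6, 8, 4, 6]], ev (atm 5 F) l ∈ gsub 14 g :=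
  gTF.mem_words gTN (show AllP (fun l => ∃ w, Nat.beq (PA.evw J4V.A TF l J4V.A.one)
    (PA.evw J4V.A TN w J4V.A.one) = true) [[0, 0], [2, 2], [4, 4], [6, 6], [8, 8, 8], [8, 0, 8, 0], [8, 4, 8, 4, 8, 4, 8, 4, 8, 4], [8, 4, 9, 4, 0, 4, 8, 4, 9, 0, 4, 0], [0, 8, 2, 9, 2, 0, 2], [4, 9, 4, 2, 4, 8, 4, 2], [4, 0, 2, 4, 0, 2, 4, 0, 2], [0, 9, 6, 8, 0, 6], [0, 2, 4, 2, 4, 0, 6, 0, 2, 4, 2, 0, 6], [8, 6, 9, 4, 9, 6, 8, 4, 6]] from AllP.cons ⟨_, r107⟩ (AllP.cons ⟨_, r108⟩ (AllP.cons ⟨_, r109⟩ (AllP.cons ⟨_, r110⟩ (AllP.cons ⟨_, r111⟩ (AllP.cons ⟨_, r112⟩ (AllP.cons ⟨_, r113⟩ (AllP.cons ⟨_, r114⟩ (AllP.cons ⟨_, r115⟩ (AllP.cons ⟨_, r116⟩ (AllP.cons ⟨_, r117⟩ (AllP.cons ⟨_, r118⟩ (AllP.cons ⟨_, r119⟩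 (AllP.cons ⟨_, r120⟩ (AllP.nil)))))))))))))))

theorem next : NExt (gsub 19 g) (gsub 14 g) J4ma.P := by
  have := pcN.finite
  rw [gsub_add 14 5]
  exact next_of J4ma.bound (by norm_num) J4ma.cert.pres J4ma.lbP J4ma.simpleP (N := 5)
    (fun _ hj => mem_gsub F hj)
    (fun i hi x => (Subgroup.mem_normalizer_iff.mp (nN (mem_gsub g (by omega))) x).mp)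
    rel (WD := [[0], [2], [4], [6], [8]]) (H := [([], 4, true), ([], 5, true), ([], 6, true), ([], 7, true), ([], 8, true), ([], 9, true), ([], 10, true), ([], 11, true), ([], 12, true), ([], 13, true)]) (by decide +kernel) (not_mem_of_ord ordF pcN.1 (by norm_num))

theorem pcM : PC g 19 10899947520 := ⟨by rw [next.card, J4ma.cardP, pcN.1]; rfl, by norm_num⟩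

theorem subK : (wsub 3 J4N.p J4N.ZB.HW).map Y.ψ ≤ gsub 20 g := by
  rw [wsub_map (J4C2.hψ J4L.pres2), ← wsub_lt (N := 4) _ (by decide +kernel)]
  exact wsub_le (gT4.mem_cross gTK (fun _ hj => mem_gsub g hj) cr)

theorem pcK : PC g 20 (2 * 10899947520) :=
  gTK.pc pcM (by decide) Nat.prime_two
    (show AllP (fun j => ∃ w, PA.pcC J4V.A TK 19 j w = true) [0, 1, 2, 3, 4, 5, 6, 7, 8, 9, 10, 11, 12, 13, 14, 15, 16, 17, 18] from AllP.cons ⟨_, pc311⟩ (AllP.cons ⟨_, pc312⟩ (AllP.cons ⟨_, pc313⟩ (AllP.cons ⟨_, pc314⟩ (AllP.cons ⟨_, pc315⟩ (AllP.cons ⟨_, pc316⟩ (AllP.cons ⟨_, pc317⟩ (AllP.cons ⟨_, pc318⟩ (AllP.cons ⟨_, pc319⟩ (AllP.cons ⟨_, pc320⟩ (AllP.cons ⟨_, pc321⟩ (AllP.cons ⟨_, pc322⟩ (AllP.cons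 ⟨_, pc323⟩ (AllP.cons ⟨_, pc324⟩ (AllP.cons ⟨_, pc325⟩ (AllP.cons ⟨_, pc326⟩ (AllP.cons ⟨_, pc327⟩ (AllP.cons ⟨_, pc328⟩ (AllP.cons ⟨_, pc329⟩ (AllP.nil)))))))))))))))))))) p19
    (pcM.not_mem (s := 283115520) subK (by rw [Subgroup.card_map_of_injective J4L.injψ]; exact J4N.ZB.cardH) (by norm_num))

theorem elz : Y.ψ z = g 0 :=
  ((J4C2.hA J4L.pres2).ψ_ev (by decide)).trans ((gT4.cross gTK cz).trans (mul_one _))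
theorem ordz : orderOf (g 0) = 2 := gTK.ord_at (by decide) Nat.prime_two o0
theorem commK : ∀ k ∈ gsub 20 g, k * g 0 = g 0 * k := comm_of_gens (gTK.comm (gTK 0).1 cmK)
theorem sym1 : J4V.X.M J4V.gt ∧ J4V.X.el J4V.gt = Y.sym 1 :=
  (J4C2.hA J4L.pres2).symM gT4 sw1 rfl w330
theorem wb331 : ev (atm 3 J4N.p) [] * ev (atm 3 J4N.p) [4] * (ev (atm 3 J4N.p) [])⁻¹ ∉ wsub 3 J4N.p [[3, 0, 2, 0, 3, 0, 2, 0, 2, 0, 2, 0, 3, 0, 2, 0, 2, 0, 2, 0, 2, 0, 2, 0, 3, 0, 3, 0, 3, 0, 3, 0, 2, 0, 2, 0, 2, 0, 3, 0, 3, 0, 2, 0, 2, 0, 2, 0, 3, 0, 2, 0, 2, 1, 2, 1, 3, 1, 3, 1, 3, 1, 3, 1, 2, 1, 4, 0, 3, 0, 2, 0, 2, 0, 2, 0, 2, 0, 3, 0], [3, 0, 2, 0, 3, 0, 2, 0, 3, 0, 3, 0, 3, 0, 2, 0, 3, 0, 2, 0, 3, 0, 3, 0, 3, 0,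 2, 0, 2, 0, 3, 0, 2, 0, 3, 0, 2, 0, 3, 3, 1, 2, 1, 3, 1, 3, 1, 3, 1, 3, 1, 4, 0, 2, 0, 2, 0, 2, 0, 2, 0, 3, 0, 2, 0, 2, 0, 2, 0]] :=
  not_mem_of_map (J4C2.hψ J4L.pres2) (N := 4) (by decide +kernel) (gT4.not_mem nm332)
theorem wb333 : Y.WB (gsub 20 g) z 1 (ev (atm 3 J4N.p) [3, 0, 2, 0]) :=
  (J4C2.hA J4L.pres2).bad gT4 sym1 w337 w338 c336 J4T.Z.bad38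
theorem wb339 : Y.WB (gsub 20 g) z 1 (ev (atm 3 J4N.p) [3, 0, 3, 0, 2, 0, 2, 0, 3, 0]) :=
  (J4C2.hA J4L.pres2).bad gT4 sym1 w343 w344 c342 J4T.Z.bad44
theorem wb345 : Y.WB (gsub 20 g) z 1 (ev (atm 3 J4N.p) [2, 0, 2, 0, 2, 0, 2, 0, 3, 0]) :=
  (J4C2.hA J4L.pres2).wit' gT4 gTK (fun _ hj => mem_gsub g hj) sym1 w348 w349 c347
theorem sym4 : J4V.X.M x4 ∧ J4V.X.el x4 = Y.sym 4 :=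
  (J4C2.hA J4L.pres2).symM gT4 sw4 rfl w350
theorem wb351 : ev (atm 3 J4N.p) [] * ev (atm 3 J4N.p) [4] * (ev (atm 3 J4N.p) [])⁻¹ ∉ wsub 3 J4N.p [[0, 2, 0, 2, 0, 2, 0, 2, 0, 2, 0, 3, 0, 2, 0, 2, 0, 2, 0, 3, 0, 3, 0, 3, 0, 3, 0, 3, 0, 3, 0, 3, 0, 3, 0, 3, 0, 2, 0, 3, 0, 3, 0, 3, 0, 3, 0, 2, 0, 3, 0, 2, 2, 1, 3, 1, 3, 1, 2, 1, 2, 1, 2, 1, 2, 1, 3, 1, 2, 1, 4, 0, 3, 0, 2, 0, 3, 0, 3, 0, 3, 0, 3, 0, 2, 0, 2, 0, 3, 0, 2], [2, 0, 2, 0, 3, 0, 3, 0, 3, 0, 3, 0, 3, 0, 3, 0, 3, 0, 2, 0, 2, 0, 2, 0, 3, 0, 2, 0, 3, 0, 2, 0, 3, 0, 3, 0, 3, 0, 2, 0, 3, 0, 3, 0, 3, 0, 3, 0, 3, 0, 3, 0, 3, 3, 1, 3, 1, 3, 1, 2, 1, 2, 1, 2, 1, 3, 1, 2, 1, 2, 1, 2, 1, 4, 0, 3, 0, 3, 0, 3, 0, 2, 0, 3, 0, 3, 0, 3, 0, 2, 0, 2,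 0, 2]] :=
  not_mem_of_map (J4C2.hψ J4L.pres2) (N := 4) (by decide +kernel) (gT4.not_mem nm352)
theorem wb353 : ev (atm 3 J4N.p) [2, 0] * ev (atm 3 J4N.p) [4] * (ev (atm 3 J4N.p) [2, 0])⁻¹ ∉ wsub 3 J4N.p [[0, 2, 0, 2, 0, 2, 0, 2, 0, 2, 0, 3, 0, 2, 0, 2, 0, 2, 0, 3, 0, 3, 0, 3, 0, 3, 0, 3, 0, 3, 0, 3, 0, 3, 0, 3, 0, 2, 0, 3, 0, 3, 0, 3, 0, 3, 0, 2, 0, 3, 0, 2, 2, 1, 3, 1, 3, 1, 2, 1, 2, 1, 2, 1, 2, 1, 3, 1, 2, 1, 4, 0, 3, 0, 2, 0, 3, 0, 3, 0, 3, 0, 3, 0, 2, 0, 2, 0, 3, 0, 2], [2, 0, 2, 0, 3, 0, 3, 0, 3, 0, 3, 0, 3, 0, 3, 0, 3, 0, 2, 0, 2, 0, 2, 0, 3, 0, 2, 0, 3, 0, 2, 0, 3, 0, 3, 0, 3, 0, 2, 0, 3, 0, 3, 0, 3, 0, 3, 0, 3, 0, 3, 0, 3, 3, 1, 3, 1, 3, 1, 2, 1, 2, 1, 2, 1, 3, 1, 2, 1, 2, 1, 2,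 1, 4, 0, 3, 0, 3, 0, 3, 0, 2, 0, 3, 0, 3, 0, 3, 0, 2, 0, 2, 0, 2]] :=
  not_mem_of_map (J4C2.hψ J4L.pres2) (N := 4) (by decide +kernel) (gT4.not_mem nm354)
theorem wb355 : Y.WB (gsub 20 g) z 4 (ev (atm 3 J4N.p) [0, 2, 0, 3, 0, 3, 0, 3, 0]) :=
  (J4C2.hA J4L.pres2).bad gT4 sym4 w359 w360 c358 J4T.Z.bad63
theorem wb361 : Y.WB (gsub 20 g) z 4 (ev (atm 3 J4N.p) [0, 2, 0, 2, 0, 2, 0, 3, 0, 3, 0, 3, 0]) :=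
  (J4C2.hA J4L.pres2).wit' gT4 gTK (fun _ hj => mem_gsub g hj) sym4 w364 w365 c363
theorem sym6 : J4V.X.M x6 ∧ J4V.X.el x6 = Y.sym 6 :=
  (J4C2.hA J4L.pres2).symM gT4 sw6 rfl w366
theorem wb367 : ev (atm 3 J4N.p) [] * ev (atm 3 J4N.p) [4] * (ev (atm 3 J4N.p) [])⁻¹ ∉ wsub 3 J4N.p [[0, 3, 0, 2, 0, 2, 0, 3, 0, 2, 0, 3, 0, 3, 0, 3, 0, 2, 0, 2, 0, 3, 0, 3, 0, 2, 0, 3, 0, 2, 0, 3, 0, 2, 0, 3, 0, 3, 0, 3, 0, 2, 0, 3, 0, 3, 0, 3, 0, 3, 0, 2, 0, 3, 0, 2, 2, 1, 2, 1, 2, 1, 2, 1, 3, 1, 2, 1, 3, 1, 2, 1, 3, 1, 2, 1, 3, 1, 4, 0, 2, 0, 3, 0, 2, 0, 3, 0, 2, 0, 3, 0, 2, 0, 3, 0, 3, 0, 3, 0, 3], [0, 2, 0, 3, 0, 2, 0, 3, 0, 2, 0, 2, 0, 2, 0, 3, 0, 2, 0, 2, 0, 2, 0, 2, 0, 2, 0, 2, 0, 3, 0, 3, 0, 2, 0, 2,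 0, 3, 0, 3, 0, 3, 0, 3, 0, 3, 0, 2, 0, 3, 3, 1, 2, 1, 3, 1, 2, 1, 2, 1, 3, 1, 3, 1, 3, 1, 3, 1, 2, 1, 2, 1, 4, 0, 3, 0, 3, 0, 2, 0, 2, 0, 2, 0, 2, 0, 3, 0, 3, 0, 2, 0, 3, 0, 2]] :=
  not_mem_of_map (J4C2.hψ J4L.pres2) (N := 4) (by decide +kernel) (gT4.not_mem nm368)
theorem wb369 : ev (atm 3 J4N.p) [2, 0] * ev (atm 3 J4N.p) [4] * (ev (atm 3 J4N.p) [2, 0])⁻¹ ∉ wsub 3 J4N.p [[0, 3, 0, 2, 0, 2, 0, 3, 0, 2, 0, 3, 0, 3, 0, 3, 0, 2, 0, 2, 0, 3, 0, 3, 0, 2, 0, 3, 0, 2, 0, 3, 0, 2, 0, 3, 0, 3, 0, 3, 0, 2, 0, 3, 0, 3, 0, 3, 0, 3, 0, 2, 0, 3, 0, 2, 2, 1, 2, 1, 2, 1, 2, 1, 3, 1, 2, 1, 3, 1, 2, 1, 3, 1, 2, 1, 3, 1, 4, 0, 2, 0, 3, 0, 2, 0, 3, 0, 2, 0, 3, 0, 2, 0, 3, 0, 3, 0, 3, 0, 3], [0, 2, 0, 3, 0,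 2, 0, 3, 0, 2, 0, 2, 0, 2, 0, 3, 0, 2, 0, 2, 0, 2, 0, 2, 0, 2, 0, 2, 0, 3, 0, 3, 0, 2, 0, 2, 0, 3, 0, 3, 0, 3, 0, 3, 0, 3, 0, 2, 0, 3, 3, 1, 2, 1, 3, 1, 2, 1, 2, 1, 3, 1, 3, 1, 3, 1, 3, 1, 2, 1, 2, 1, 4, 0, 3, 0, 3, 0, 2, 0, 2, 0, 2, 0, 2, 0, 3, 0, 3, 0, 2, 0, 3, 0, 2]] :=
  not_mem_of_map (J4C2.hψ J4L.pres2) (N := 4) (by decide +kernel) (gT4.not_mem nm370)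
theorem wb371 : ev (atm 3 J4N.p) [2, 0, 3, 0] * ev (atm 3 J4N.p) [4] * (ev (atm 3 J4N.p) [2, 0, 3, 0])⁻¹ ∉ wsub 3 J4N.p [[0, 3, 0, 2, 0, 2, 0, 3, 0, 2, 0, 3, 0, 3, 0, 3, 0, 2, 0, 2, 0, 3, 0, 3, 0, 2, 0, 3, 0, 2, 0, 3, 0, 2, 0, 3, 0, 3, 0, 3, 0, 2, 0, 3, 0, 3, 0, 3, 0, 3, 0, 2, 0, 3, 0, 2, 2, 1, 2, 1, 2, 1, 2, 1, 3, 1, 2, 1, 3, 1, 2, 1, 3, 1, 2, 1, 3, 1, 4, 0, 2, 0, 3, 0, 2, 0, 3, 0, 2, 0, 3, 0, 2, 0, 3, 0, 3, 0, 3, 0, 3], [0, 2, 0, 3, 0, 2, 0, 3, 0, 2, 0, 2, 0, 2, 0, 3, 0, 2, 0, 2, 0, 2, 0, 2, 0, 2, 0, 2, 0, 3, 0, 3, 0, 2, 0, 2, 0, 3, 0, 3, 0, 3, 0, 3, 0, 3, 0, 2, 0, 3, 3, 1, 2, 1, 3, 1, 2, 1, 2, 1, 3, 1, 3, 1, 3, 1, 3, 1, 2, 1, 2, 1, 4, 0, 3, 0, 3, 0, 2, 0, 2, 0, 2, 0, 2, 0, 3, 0, 3, 0,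 2, 0, 3, 0, 2]] :=
  not_mem_of_map (J4C2.hψ J4L.pres2) (N := 4) (by decide +kernel) (gT4.not_mem nm372)
theorem wb373 : ev (atm 3 J4N.p) [3, 0, 2, 0] * ev (atm 3 J4N.p) [4] * (ev (atm 3 J4N.p) [3, 0, 2, 0])⁻¹ ∉ wsub 3 J4N.p [[0, 3, 0, 2, 0, 2, 0, 3, 0, 2, 0, 3, 0, 3, 0, 3, 0, 2, 0, 2, 0, 3, 0, 3, 0, 2, 0, 3, 0, 2, 0, 3, 0, 2, 0, 3, 0, 3, 0, 3, 0, 2, 0, 3, 0, 3, 0, 3, 0, 3, 0, 2, 0, 3, 0, 2, 2, 1, 2, 1, 2, 1, 2, 1, 3, 1, 2, 1, 3, 1, 2, 1, 3, 1, 2, 1, 3, 1, 4, 0, 2, 0, 3, 0, 2, 0, 3, 0, 2, 0, 3, 0, 2, 0, 3, 0, 3, 0, 3, 0, 3], [0, 2, 0, 3, 0, 2, 0, 3, 0, 2, 0, 2, 0, 2, 0, 3, 0, 2, 0, 2, 0, 2, 0, 2, 0, 2, 0, 2, 0, 3, 0, 3, 0, 2, 0, 2, 0, 3, 0, 3, 0, 3, 0, 3, 0, 3, 0, 2, 0, 3, 3, 1, 2, 1, 3,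 1, 2, 1, 2, 1, 3, 1, 3, 1, 3, 1, 3, 1, 2, 1, 2, 1, 4, 0, 3, 0, 3, 0, 2, 0, 2, 0, 2, 0, 2, 0, 3, 0, 3, 0, 2, 0, 3, 0, 2]] :=
  not_mem_of_map (J4C2.hψ J4L.pres2) (N := 4) (by decide +kernel) (gT4.not_mem nm374)
theorem wb375 : ev (atm 3 J4N.p) [2, 0, 2, 0, 3, 0, 3, 0] * ev (atm 3 J4N.p) [4] * (ev (atm 3 J4N.p) [2, 0, 2, 0, 3, 0, 3, 0])⁻¹ ∉ wsub 3 J4N.p [[0, 3, 0, 2, 0, 2, 0, 3, 0, 2, 0, 3, 0, 3, 0, 3, 0, 2, 0, 2, 0, 3, 0, 3, 0, 2, 0, 3, 0, 2, 0, 3, 0, 2, 0, 3, 0, 3, 0, 3, 0, 2, 0, 3, 0, 3, 0, 3, 0, 3, 0, 2, 0, 3, 0, 2, 2, 1, 2, 1, 2, 1, 2, 1, 3, 1, 2, 1, 3, 1, 2, 1, 3, 1, 2, 1, 3, 1, 4, 0, 2, 0, 3, 0, 2, 0, 3, 0, 2, 0, 3, 0, 2, 0, 3, 0, 3, 0, 3, 0, 3], [0, 2, 0, 3, 0, 2, 0, 3, 0, 2, 0, 2,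 0, 2, 0, 3, 0, 2, 0, 2, 0, 2, 0, 2, 0, 2, 0, 2, 0, 3, 0, 3, 0, 2, 0, 2, 0, 3, 0, 3, 0, 3, 0, 3, 0, 3, 0, 2, 0, 3, 3, 1, 2, 1, 3, 1, 2, 1, 2, 1, 3, 1, 3, 1, 3, 1, 3, 1, 2, 1, 2, 1, 4, 0, 3, 0, 3, 0, 2, 0, 2, 0, 2, 0, 2, 0, 3, 0, 3, 0, 2, 0, 3, 0, 2]] :=
  not_mem_of_map (J4C2.hψ J4L.pres2) (N := 4) (by decide +kernel) (gT4.not_mem nm376)
theorem wb377 : ev (atm 3 J4N.p) [0, 3, 0, 2, 0, 2, 0, 2, 0, 3, 0, 2, 0] * ev (atm 3 J4N.p) [4] * (ev (atm 3 J4N.p) [0, 3, 0, 2, 0, 2, 0, 2, 0, 3, 0, 2, 0])⁻¹ ∉ wsub 3 J4N.p [[0, 3, 0, 2, 0, 2, 0, 3, 0, 2, 0, 3, 0, 3, 0, 3, 0, 2, 0, 2, 0, 3, 0, 3, 0, 2, 0, 3, 0, 2, 0, 3, 0, 2, 0, 3, 0, 3, 0, 3, 0, 2, 0, 3, 0, 3, 0, 3, 0, 3, 0, 2, 0, 3, 0, 2, 2, 1, 2, 1,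 2, 1, 2, 1, 3, 1, 2, 1, 3, 1, 2, 1, 3, 1, 2, 1, 3, 1, 4, 0, 2, 0, 3, 0, 2, 0, 3, 0, 2, 0, 3, 0, 2, 0, 3, 0, 3, 0, 3, 0, 3], [0, 2, 0, 3, 0, 2, 0, 3, 0, 2, 0, 2, 0, 2, 0, 3, 0, 2, 0, 2, 0, 2, 0, 2, 0, 2, 0, 2, 0, 3, 0, 3, 0, 2, 0, 2, 0, 3, 0, 3, 0, 3, 0, 3, 0, 3, 0, 2, 0, 3, 3, 1, 2, 1, 3, 1, 2, 1, 2, 1, 3, 1, 3, 1, 3, 1, 3, 1, 2, 1, 2, 1, 4, 0, 3, 0, 3, 0, 2, 0, 2, 0, 2, 0, 2, 0, 3, 0, 3, 0, 2, 0, 3, 0, 2]] :=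
  not_mem_of_map (J4C2.hψ J4L.pres2) (N := 4) (by decide +kernel) (gT4.not_mem nm378)
theorem wb379 : Y.WB (gsub 20 g) z 6 (ev (atm 3 J4N.p) [0, 2, 0, 2, 0, 2, 0, 3, 0, 3, 0, 3, 0]) :=
  (J4C2.hA J4L.pres2).bad gT4 sym6 w383 w384 c382 J4T.Z.bad96
theorem wb385 : Y.WB (gsub 20 g) z 6 (ev (atm 3 J4N.p) [3, 0, 2, 0, 2, 0, 3, 0, 3, 0, 3, 0, 3, 0, 3, 0]) :=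
  (J4C2.hA J4L.pres2).bad gT4 sym6 w389 w390 c388 J4T.Z.bad102
theorem sym7 : J4V.X.M x7 ∧ J4V.X.el x7 = Y.sym 7 :=
  (J4C2.hA J4L.pres2).symM gT4 sw7 rfl w391
theorem wb392 : ev (atm 3 J4N.p) [] * ev (atm 3 J4N.p) [4] * (ev (atm 3 J4N.p) [])⁻¹ ∉ wsub 3 J4N.p [[0, 2, 0, 3, 0, 3, 0, 2, 0, 2, 0, 3, 0, 3, 0, 3, 0, 3, 0, 2, 0, 3, 0, 3, 0, 3, 0, 2, 0, 3, 0, 3, 0, 3, 0, 3, 0, 2, 0, 3, 0, 3, 0, 3, 0, 3, 0, 3, 0, 2, 2, 1, 4, 2, 1, 2, 1, 2, 1, 4, 0, 3, 0, 3, 0, 3, 0, 3, 0, 3], [2, 0, 2, 0, 3, 0, 2, 0, 2, 0, 2, 0, 2, 0, 3, 0, 2, 0, 3, 0, 2, 0, 2, 0, 2, 0, 3, 0, 2, 0, 3, 0, 2, 0, 3, 0, 3, 0, 2, 0, 2, 0, 3, 0, 3, 0, 2, 0, 3, 3, 1, 3, 1, 3, 1, 3, 1, 3, 1, 2, 1, 2, 1, 4, 0, 3, 0, 3, 0, 2, 0, 2, 0, 2,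 0, 2, 0, 2, 0]] :=
  not_mem_of_map (J4C2.hψ J4L.pres2) (N := 4) (by decide +kernel) (gT4.not_mem nm393)
theorem wb394 : ev (atm 3 J4N.p) [3, 0] * ev (atm 3 J4N.p) [4] * (ev (atm 3 J4N.p) [3, 0])⁻¹ ∉ wsub 3 J4N.p [[0, 2, 0, 3, 0, 3, 0, 2, 0, 2, 0, 3, 0, 3, 0, 3, 0, 3, 0, 2, 0, 3, 0, 3, 0, 3, 0, 2, 0, 3, 0, 3, 0, 3, 0, 3, 0, 2, 0, 3, 0, 3, 0, 3, 0, 3, 0, 3, 0, 2, 2, 1, 4, 2, 1, 2, 1, 2, 1, 4, 0, 3, 0, 3, 0, 3, 0, 3, 0, 3], [2, 0, 2, 0, 3, 0, 2, 0, 2, 0, 2, 0, 2, 0, 3, 0, 2, 0, 3, 0, 2, 0, 2, 0, 2, 0, 3, 0, 2, 0, 3, 0, 2, 0, 3, 0, 3, 0, 2, 0, 2, 0, 3, 0, 3, 0, 2, 0, 3, 3, 1, 3, 1, 3, 1, 3, 1, 3, 1, 2, 1, 2, 1, 4, 0, 3, 0, 3, 0, 2, 0, 2, 0, 2, 0, 2, 0, 2, 0]] :=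
  not_mem_of_map (J4C2.hψ J4L.pres2) (N := 4) (by decide +kernel) (gT4.not_mem nm395)
theorem wb396 : ev (atm 3 J4N.p) [0, 2, 0] * ev (atm 3 J4N.p) [4] * (ev (atm 3 J4N.p) [0, 2, 0])⁻¹ ∉ wsub 3 J4N.p [[0, 2, 0, 3, 0, 3, 0, 2, 0, 2, 0, 3, 0, 3, 0, 3, 0, 3, 0, 2, 0, 3, 0, 3, 0, 3, 0, 2, 0, 3, 0, 3, 0, 3, 0, 3, 0, 2, 0, 3, 0, 3, 0, 3, 0, 3, 0, 3, 0, 2, 2, 1, 4, 2, 1, 2, 1, 2, 1, 4, 0, 3, 0, 3, 0, 3, 0, 3, 0, 3], [2, 0, 2, 0, 3, 0, 2, 0, 2, 0, 2, 0, 2, 0, 3, 0, 2, 0, 3, 0, 2, 0, 2, 0, 2, 0, 3, 0, 2, 0, 3, 0, 2, 0, 3, 0, 3, 0, 2, 0, 2, 0, 3, 0, 3, 0, 2, 0, 3, 3, 1, 3, 1, 3, 1, 3, 1, 3, 1, 2, 1, 2, 1, 4, 0, 3, 0, 3, 0, 2, 0, 2, 0, 2, 0, 2, 0, 2, 0]] :=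
  not_mem_of_map (J4C2.hψ J4L.pres2) (N := 4) (by decide +kernel) (gT4.not_mem nm397)
theorem wb398 : ev (atm 3 J4N.p) [2, 0, 3, 0, 3, 0, 3, 0] * ev (atm 3 J4N.p) [4] * (ev (atm 3 J4N.p) [2, 0, 3, 0, 3, 0, 3, 0])⁻¹ ∉ wsub 3 J4N.p [[0, 2, 0, 3, 0, 3, 0, 2, 0, 2, 0, 3, 0, 3, 0, 3, 0, 3, 0, 2, 0, 3, 0, 3, 0, 3, 0, 2, 0, 3, 0, 3, 0, 3, 0, 3, 0, 2, 0, 3, 0, 3, 0, 3, 0, 3, 0, 3, 0, 2, 2, 1, 4, 2, 1, 2, 1, 2, 1, 4, 0, 3, 0, 3, 0, 3, 0, 3, 0, 3], [2, 0, 2, 0, 3, 0, 2, 0, 2, 0, 2, 0, 2, 0, 3, 0, 2, 0, 3, 0, 2, 0, 2, 0, 2, 0, 3, 0, 2, 0, 3, 0, 2, 0, 3, 0, 3, 0, 2, 0, 2, 0, 3, 0, 3, 0, 2, 0, 3, 3, 1, 3, 1, 3, 1, 3, 1, 3, 1, 2, 1, 2, 1, 4, 0, 3, 0, 3, 0, 2, 0, 2, 0, 2, 0, 2, 0, 2, 0]] :=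
  not_mem_of_map (J4C2.hψ J4L.pres2) (N := 4) (by decide +kernel) (gT4.not_mem nm399)
theorem wb400 : ev (atm 3 J4N.p) [3, 0, 3, 0, 2, 0, 3, 0, 3, 0, 3, 0] * ev (atm 3 J4N.p) [4] * (ev (atm 3 J4N.p) [3, 0, 3, 0, 2, 0, 3, 0, 3, 0, 3, 0])⁻¹ ∉ wsub 3 J4N.p [[0, 2, 0, 3, 0, 3, 0, 2, 0, 2, 0, 3, 0, 3, 0, 3, 0, 3, 0, 2, 0, 3, 0, 3, 0, 3, 0, 2, 0, 3, 0, 3, 0, 3, 0, 3, 0, 2, 0, 3, 0, 3, 0, 3, 0, 3, 0, 3, 0, 2, 2, 1, 4, 2, 1, 2, 1, 2, 1, 4, 0, 3, 0, 3, 0, 3, 0, 3, 0, 3], [2, 0, 2, 0, 3, 0, 2, 0, 2, 0, 2, 0, 2, 0, 3, 0, 2, 0, 3, 0, 2, 0, 2, 0, 2, 0, 3, 0, 2, 0, 3, 0, 2, 0, 3, 0, 3, 0, 2, 0, 2, 0, 3, 0, 3, 0, 2, 0, 3, 3, 1, 3, 1, 3, 1, 3, 1, 3, 1, 2, 1, 2, 1, 4, 0, 3, 0, 3, 0, 2, 0, 2, 0, 2, 0, 2,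 0, 2, 0]] :=
  not_mem_of_map (J4C2.hψ J4L.pres2) (N := 4) (by decide +kernel) (gT4.not_mem nm401)
theorem wb402 : ev (atm 3 J4N.p) [2, 0, 2, 0, 2, 0, 2, 0, 3, 0] * ev (atm 3 J4N.p) [4] * (ev (atm 3 J4N.p) [2, 0, 2, 0, 2, 0, 2, 0, 3, 0])⁻¹ ∉ wsub 3 J4N.p [[0, 2, 0, 3, 0, 3, 0, 2, 0, 2, 0, 3, 0, 3, 0, 3, 0, 3, 0, 2, 0, 3, 0, 3, 0, 3, 0, 2, 0, 3, 0, 3, 0, 3, 0, 3, 0, 2, 0, 3, 0, 3, 0, 3, 0, 3, 0, 3, 0, 2, 2, 1, 4, 2, 1, 2, 1, 2, 1, 4, 0, 3, 0, 3, 0, 3, 0, 3, 0, 3], [2, 0, 2, 0, 3, 0, 2, 0, 2, 0, 2, 0, 2, 0, 3, 0, 2, 0, 3, 0, 2, 0, 2, 0, 2, 0, 3, 0, 2, 0, 3, 0, 2, 0, 3, 0, 3, 0, 2, 0, 2, 0, 3, 0, 3, 0, 2, 0, 3, 3, 1, 3, 1, 3, 1, 3, 1, 3, 1, 2, 1, 2, 1, 4, 0, 3, 0, 3, 0, 2, 0, 2, 0, 2, 0, 2,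 0, 2, 0]] :=
  not_mem_of_map (J4C2.hψ J4L.pres2) (N := 4) (by decide +kernel) (gT4.not_mem nm403)
theorem wb404 : Y.WB (gsub 20 g) z 7 (ev (atm 3 J4N.p) [2, 0, 2, 0, 2, 0, 3, 0, 3, 0, 3, 0]) :=
  (J4C2.hA J4L.pres2).bad gT4 sym7 w408 w409 c407 J4T.Z.bad131
theorem sym10 : J4V.X.M x10 ∧ J4V.X.el x10 = Y.sym 10 :=
  (J4C2.hA J4L.pres2).symM gT4 sw10 rfl w410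
theorem wb411 : ev (atm 3 J4N.p) [] * ev (atm 3 J4N.p) [4] * (ev (atm 3 J4N.p) [])⁻¹ ∉ wsub 3 J4N.p [[0, 2, 0, 2, 0, 2, 0, 3, 0, 2, 0, 3, 0, 2, 0, 2, 0, 3, 0, 3, 0, 3, 0, 2, 0, 2, 0, 3, 0, 3, 0, 3, 0, 3, 0, 3, 0, 3, 0, 2, 0, 2, 0, 2, 0, 2, 1, 2, 1, 2, 1, 3, 1, 2, 1, 3, 1, 2, 1, 2, 1, 3, 1, 2, 1, 3, 1, 4, 0, 2, 0, 3, 0, 2, 0, 3, 0, 3, 0, 2, 0, 3, 0, 2, 0, 3, 0, 3, 0, 3], [3, 0, 2, 0, 3, 0, 2, 0, 3, 0, 2, 0, 3, 0, 3, 0, 3, 0, 3, 0, 3, 0, 2, 0, 3, 0, 2, 0, 3, 0, 3, 0, 3, 0, 3, 0, 3, 0, 2, 0, 2, 0, 2, 0, 3, 0, 2, 0, 3, 0, 3, 0, 2, 0, 3, 1, 2, 1, 3, 1, 2, 1, 2, 1, 3, 1, 3, 1, 4, 0, 2, 0, 2, 0, 3, 0, 3, 0, 2, 0, 3, 0, 2]] :=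
  not_mem_of_map (J4C2.hψ J4L.pres2) (N := 4) (by decide +kernel) (gT4.not_mem nm412)
theorem wb413 : ev (atm 3 J4N.p) [3, 0] * ev (atm 3 J4N.p) [4] * (ev (atm 3 J4N.p) [3, 0])⁻¹ ∉ wsub 3 J4N.p [[0, 2, 0, 2, 0, 2, 0, 3, 0, 2, 0, 3, 0, 2, 0, 2, 0, 3, 0, 3, 0, 3, 0, 2, 0, 2, 0, 3, 0, 3, 0, 3, 0, 3, 0, 3, 0, 3, 0, 2, 0, 2, 0, 2, 0, 2, 1, 2, 1, 2, 1, 3, 1, 2, 1, 3, 1, 2, 1, 2, 1, 3, 1, 2, 1, 3, 1, 4, 0, 2, 0, 3, 0, 2, 0, 3, 0, 3, 0, 2, 0, 3, 0, 2, 0, 3, 0, 3, 0, 3], [3, 0, 2, 0, 3, 0, 2, 0, 3, 0, 2, 0, 3, 0, 3, 0, 3, 0, 3, 0, 3, 0, 2, 0, 3, 0, 2, 0, 3, 0, 3, 0, 3, 0, 3, 0, 3, 0, 2, 0, 2, 0, 2, 0, 3, 0, 2, 0, 3, 0, 3, 0, 2, 0, 3, 1, 2, 1, 3, 1, 2, 1, 2, 1, 3, 1, 3, 1, 4, 0, 2, 0, 2, 0, 3, 0,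 3, 0, 2, 0, 3, 0, 2]] :=
  not_mem_of_map (J4C2.hψ J4L.pres2) (N := 4) (by decide +kernel) (gT4.not_mem nm414)
theorem wb415 : ev (atm 3 J4N.p) [3, 0, 2, 0] * ev (atm 3 J4N.p) [4] * (ev (atm 3 J4N.p) [3, 0, 2, 0])⁻¹ ∉ wsub 3 J4N.p [[0, 2, 0, 2, 0, 2, 0, 3, 0, 2, 0, 3, 0, 2, 0, 2, 0, 3, 0, 3, 0, 3, 0, 2, 0, 2, 0, 3, 0, 3, 0, 3, 0, 3, 0, 3, 0, 3, 0, 2, 0, 2, 0, 2, 0, 2, 1, 2, 1, 2, 1, 3, 1, 2, 1, 3, 1, 2, 1, 2, 1, 3, 1, 2, 1, 3, 1, 4, 0, 2, 0, 3, 0, 2, 0, 3, 0, 3, 0, 2, 0, 3, 0, 2, 0, 3, 0, 3, 0, 3], [3, 0, 2, 0, 3, 0, 2, 0, 3, 0, 2, 0, 3, 0, 3, 0, 3, 0, 3, 0, 3, 0, 2, 0, 3, 0, 2, 0, 3, 0, 3, 0, 3, 0, 3, 0, 3, 0, 2, 0, 2, 0, 2, 0, 3, 0, 2, 0, 3, 0, 3, 0, 2, 0, 3, 1, 2, 1, 3, 1, 2, 1, 2, 1,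 3, 1, 3, 1, 4, 0, 2, 0, 2, 0, 3, 0, 3, 0, 2, 0, 3, 0, 2]] :=
  not_mem_of_map (J4C2.hψ J4L.pres2) (N := 4) (by decide +kernel) (gT4.not_mem nm416)
theorem wb417 : ev (atm 3 J4N.p) [2, 0, 3, 0, 3, 0, 3, 0] * ev (atm 3 J4N.p) [4] * (ev (atm 3 J4N.p) [2, 0, 3, 0, 3, 0, 3, 0])⁻¹ ∉ wsub 3 J4N.p [[0, 2, 0, 2, 0, 2, 0, 3, 0, 2, 0, 3, 0, 2, 0, 2, 0, 3, 0, 3, 0, 3, 0, 2, 0, 2, 0, 3, 0, 3, 0, 3, 0, 3, 0, 3, 0, 3, 0, 2, 0, 2, 0, 2, 0, 2, 1, 2, 1, 2, 1, 3, 1, 2, 1, 3, 1, 2, 1, 2, 1, 3, 1, 2, 1, 3, 1, 4, 0, 2, 0, 3, 0, 2, 0, 3, 0, 3, 0, 2, 0, 3, 0, 2, 0, 3, 0, 3, 0, 3], [3, 0, 2, 0, 3, 0, 2, 0, 3, 0, 2, 0, 3, 0, 3, 0, 3, 0, 3, 0, 3, 0, 2, 0, 3, 0, 2, 0, 3, 0, 3, 0, 3, 0, 3, 0, 3, 0, 2, 0, 2, 0, 2, 0,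 3, 0, 2, 0, 3, 0, 3, 0, 2, 0, 3, 1, 2, 1, 3, 1, 2, 1, 2, 1, 3, 1, 3, 1, 4, 0, 2, 0, 2, 0, 3, 0, 3, 0, 2, 0, 3, 0, 2]] :=
  not_mem_of_map (J4C2.hψ J4L.pres2) (N := 4) (by decide +kernel) (gT4.not_mem nm418)
theorem wb419 : ev (atm 3 J4N.p) [3, 0, 3, 0, 2, 0, 2, 0, 3, 0] * ev (atm 3 J4N.p) [4] * (ev (atm 3 J4N.p) [3, 0, 3, 0, 2, 0, 2, 0, 3, 0])⁻¹ ∉ wsub 3 J4N.p [[0, 2, 0, 2, 0, 2, 0, 3, 0, 2, 0, 3, 0, 2, 0, 2, 0, 3, 0, 3, 0, 3, 0, 2, 0, 2, 0, 3, 0, 3, 0, 3, 0, 3, 0, 3, 0, 3, 0, 2, 0, 2, 0, 2, 0, 2, 1, 2, 1, 2, 1, 3, 1, 2, 1, 3, 1, 2, 1, 2, 1, 3, 1, 2, 1, 3, 1, 4, 0, 2, 0, 3, 0, 2, 0, 3, 0, 3, 0, 2, 0, 3, 0, 2, 0, 3, 0, 3, 0, 3], [3, 0, 2, 0, 3, 0, 2, 0, 3, 0, 2, 0, 3, 0, 3, 0, 3, 0, 3, 0,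 3, 0, 2, 0, 3, 0, 2, 0, 3, 0, 3, 0, 3, 0, 3, 0, 3, 0, 2, 0, 2, 0, 2, 0, 3, 0, 2, 0, 3, 0, 3, 0, 2, 0, 3, 1, 2, 1, 3, 1, 2, 1, 2, 1, 3, 1, 3, 1, 4, 0, 2, 0, 2, 0, 3, 0, 3, 0, 2, 0, 3, 0, 2]] :=
  not_mem_of_map (J4C2.hψ J4L.pres2) (N := 4) (by decide +kernel) (gT4.not_mem nm420)
theorem wb421 : ev (atm 3 J4N.p) [3, 0, 3, 0, 2, 0, 3, 0, 3, 0, 3, 0] * ev (atm 3 J4N.p) [4] * (ev (atm 3 J4N.p) [3, 0, 3, 0, 2, 0, 3, 0, 3, 0, 3, 0])⁻¹ ∉ wsub 3 J4N.p [[0, 2, 0, 2, 0, 2, 0, 3, 0, 2, 0, 3, 0, 2, 0, 2, 0, 3, 0, 3, 0, 3, 0, 2, 0, 2, 0, 3, 0, 3, 0, 3, 0, 3, 0, 3, 0, 3, 0, 2, 0, 2, 0, 2, 0, 2, 1, 2, 1, 2, 1, 3, 1, 2, 1, 3, 1, 2, 1, 2, 1, 3, 1, 2, 1, 3, 1, 4, 0, 2, 0, 3, 0, 2, 0, 3, 0, 3, 0, 2, 0, 3,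 0, 2, 0, 3, 0, 3, 0, 3], [3, 0, 2, 0, 3, 0, 2, 0, 3, 0, 2, 0, 3, 0, 3, 0, 3, 0, 3, 0, 3, 0, 2, 0, 3, 0, 2, 0, 3, 0, 3, 0, 3, 0, 3, 0, 3, 0, 2, 0, 2, 0, 2, 0, 3, 0, 2, 0, 3, 0, 3, 0, 2, 0, 3, 1, 2, 1, 3, 1, 2, 1, 2, 1, 3, 1, 3, 1, 4, 0, 2, 0, 2, 0, 3, 0, 3, 0, 2, 0, 3, 0, 2]] :=
  not_mem_of_map (J4C2.hψ J4L.pres2) (N := 4) (by decide +kernel) (gT4.not_mem nm422)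
theorem wb423 : ev (atm 3 J4N.p) [2, 0, 2, 0, 2, 0, 2, 0, 3, 0] * ev (atm 3 J4N.p) [4] * (ev (atm 3 J4N.p) [2, 0, 2, 0, 2, 0, 2, 0, 3, 0])⁻¹ ∉ wsub 3 J4N.p [[0, 2, 0, 2, 0, 2, 0, 3, 0, 2, 0, 3, 0, 2, 0, 2, 0, 3, 0, 3, 0, 3, 0, 2, 0, 2, 0, 3, 0, 3, 0, 3, 0, 3, 0, 3, 0, 3, 0, 2, 0, 2, 0, 2, 0, 2, 1, 2, 1, 2, 1, 3, 1, 2, 1, 3, 1, 2, 1, 2, 1, 3, 1, 2, 1, 3, 1, 4, 0, 2, 0, 3, 0, 2, 0, 3, 0, 3, 0, 2, 0, 3, 0, 2, 0, 3, 0, 3, 0, 3], [3, 0, 2, 0, 3, 0, 2, 0, 3, 0, 2, 0, 3, 0, 3, 0, 3, 0, 3, 0, 3, 0, 2, 0, 3, 0, 2, 0, 3, 0, 3, 0, 3, 0, 3, 0, 3, 0, 2, 0, 2, 0, 2, 0, 3, 0, 2, 0, 3, 0, 3, 0, 2, 0, 3, 1, 2, 1, 3, 1, 2, 1, 2, 1, 3, 1, 3, 1, 4, 0, 2, 0, 2, 0, 3, 0, 3, 0, 2, 0, 3, 0, 2]] :=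
  not_mem_of_map (J4C2.hψ J4L.pres2) (N := 4) (by decide +kernel) (gT4.not_mem nm424)
theorem wb425 : ev (atm 3 J4N.p) [3, 0, 3, 0, 3, 0, 2, 0, 3, 0, 2, 0, 3, 0] * ev (atm 3 J4N.p) [4] * (ev (atm 3 J4N.p) [3, 0, 3, 0, 3, 0, 2, 0, 3, 0, 2, 0, 3, 0])⁻¹ ∉ wsub 3 J4N.p [[0, 2, 0, 2, 0, 2, 0, 3, 0, 2, 0, 3, 0, 2, 0, 2, 0, 3, 0, 3, 0, 3, 0, 2, 0, 2, 0, 3, 0, 3, 0, 3, 0, 3, 0, 3, 0, 3, 0, 2, 0, 2, 0, 2, 0, 2, 1, 2, 1, 2, 1, 3, 1, 2, 1, 3, 1, 2, 1, 2, 1, 3, 1, 2, 1, 3, 1, 4, 0, 2, 0, 3, 0, 2, 0, 3, 0, 3, 0, 2, 0, 3, 0, 2, 0, 3, 0, 3, 0, 3], [3, 0, 2, 0, 3, 0, 2, 0, 3, 0, 2, 0, 3, 0, 3, 0, 3, 0, 3, 0, 3, 0, 2, 0, 3, 0, 2, 0, 3, 0, 3, 0, 3, 0, 3, 0, 3, 0, 2, 0, 2, 0, 2, 0, 3, 0, 2, 0, 3, 0, 3, 0,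 2, 0, 3, 1, 2, 1, 3, 1, 2, 1, 2, 1, 3, 1, 3, 1, 4, 0, 2, 0, 2, 0, 3, 0, 3, 0, 2, 0, 3, 0, 2]] :=
  not_mem_of_map (J4C2.hψ J4L.pres2) (N := 4) (by decide +kernel) (gT4.not_mem nm426)
theorem sym12 : J4V.X.M x12 ∧ J4V.X.el x12 = Y.sym 12 :=
  (J4C2.hA J4L.pres2).symM gT4 sw12 rfl w427
theorem wb428 : ev (atm 3 J4N.p) [] * ev (atm 3 J4N.p) [4] * (ev (atm 3 J4N.p) [])⁻¹ ∉ wsub 3 J4N.p [[0, 2, 0, 3, 0, 3, 0, 2, 0, 2, 0, 2, 0, 2, 0, 3, 0, 2, 0, 2, 0, 3, 0, 3, 0, 2, 0, 2, 0, 2, 0, 2, 0, 3, 0, 2, 0, 3, 0, 2, 0, 3, 0, 2, 2, 1, 3, 1, 2, 1, 3, 1, 2, 1, 3, 1, 3, 1, 2, 1, 2, 1, 4, 0, 3, 0, 3, 0, 2, 0, 2, 0, 3, 0, 2, 0, 3, 0, 2, 0, 3, 0, 2], [3, 0, 3, 0, 3, 0, 2, 0, 2, 0, 3, 0, 3, 0, 2, 0, 2, 0, 2,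 0, 2, 0, 2, 0, 2, 0, 2, 0, 2, 0, 2, 0, 3, 0, 2, 0, 3, 0, 3, 0, 3, 0, 3, 0, 3, 0, 2, 2, 1, 2, 1, 4, 0, 3, 0, 3, 1, 2, 1, 3, 1, 4, 0, 2, 0, 3, 0]] :=
  not_mem_of_map (J4C2.hψ J4L.pres2) (N := 4) (by decide +kernel) (gT4.not_mem nm429)
theorem wb430 : ev (atm 3 J4N.p) [3, 0] * ev (atm 3 J4N.p) [4] * (ev (atm 3 J4N.p) [3, 0])⁻¹ ∉ wsub 3 J4N.p [[0, 2, 0, 3, 0, 3, 0, 2, 0, 2, 0, 2, 0, 2, 0, 3, 0, 2, 0, 2, 0, 3, 0, 3, 0, 2, 0, 2, 0, 2, 0, 2, 0, 3, 0, 2, 0, 3, 0, 2, 0, 3, 0, 2, 2, 1, 3, 1, 2, 1, 3, 1, 2, 1, 3, 1, 3, 1, 2, 1, 2, 1, 4, 0, 3, 0, 3, 0, 2, 0, 2, 0, 3, 0, 2, 0, 3, 0, 2, 0, 3, 0, 2], [3, 0, 3, 0, 3, 0, 2, 0, 2, 0, 3, 0, 3, 0, 2, 0, 2, 0, 2, 0, 2, 0, 2, 0, 2, 0, 2, 0, 2, 0, 2, 0, 3, 0,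 2, 0, 3, 0, 3, 0, 3, 0, 3, 0, 3, 0, 2, 2, 1, 2, 1, 4, 0, 3, 0, 3, 1, 2, 1, 3, 1, 4, 0, 2, 0, 3, 0]] :=
  not_mem_of_map (J4C2.hψ J4L.pres2) (N := 4) (by decide +kernel) (gT4.not_mem nm431)
theorem wb432 : ev (atm 3 J4N.p) [0, 3, 0] * ev (atm 3 J4N.p) [4] * (ev (atm 3 J4N.p) [0, 3, 0])⁻¹ ∉ wsub 3 J4N.p [[0, 2, 0, 3, 0, 3, 0, 2, 0, 2, 0, 2, 0, 2, 0, 3, 0, 2, 0, 2, 0, 3, 0, 3, 0, 2, 0, 2, 0, 2, 0, 2, 0, 3, 0, 2, 0, 3, 0, 2, 0, 3, 0, 2, 2, 1, 3, 1, 2, 1, 3, 1, 2, 1, 3, 1, 3, 1, 2, 1, 2, 1, 4, 0, 3, 0, 3, 0, 2, 0, 2, 0, 3, 0, 2, 0, 3, 0, 2, 0, 3, 0, 2], [3, 0, 3, 0, 3, 0, 2, 0, 2, 0, 3, 0, 3, 0, 2, 0, 2, 0, 2, 0, 2, 0, 2, 0, 2, 0, 2, 0, 2, 0, 2, 0, 3, 0, 2, 0, 3, 0, 3, 0, 3, 0, 3, 0, 3, 0, 2,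 2, 1, 2, 1, 4, 0, 3, 0, 3, 1, 2, 1, 3, 1, 4, 0, 2, 0, 3, 0]] :=
  not_mem_of_map (J4C2.hψ J4L.pres2) (N := 4) (by decide +kernel) (gT4.not_mem nm433)
theorem wb434 : ev (atm 3 J4N.p) [0, 2, 0] * ev (atm 3 J4N.p) [4] * (ev (atm 3 J4N.p) [0, 2, 0])⁻¹ ∉ wsub 3 J4N.p [[0, 2, 0, 3, 0, 3, 0, 2, 0, 2, 0, 2, 0, 2, 0, 3, 0, 2, 0, 2, 0, 3, 0, 3, 0, 2, 0, 2, 0, 2, 0, 2, 0, 3, 0, 2, 0, 3, 0, 2, 0, 3, 0, 2, 2, 1, 3, 1, 2, 1, 3, 1, 2, 1, 3, 1, 3, 1, 2, 1, 2, 1, 4, 0, 3, 0, 3, 0, 2, 0, 2, 0, 3, 0, 2, 0, 3, 0, 2, 0, 3, 0, 2], [3, 0, 3, 0, 3, 0, 2, 0, 2, 0, 3, 0, 3, 0, 2, 0, 2, 0, 2, 0, 2, 0, 2, 0, 2, 0, 2, 0, 2, 0, 2, 0, 3, 0, 2, 0, 3, 0, 3, 0, 3, 0, 3, 0, 3, 0, 2, 2, 1, 2, 1, 4, 0, 3, 0, 3, 1, 2, 1, 3,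 1, 4, 0, 2, 0, 3, 0]] :=
  not_mem_of_map (J4C2.hψ J4L.pres2) (N := 4) (by decide +kernel) (gT4.not_mem nm435)
theorem commH : ∀ x ∈ wsub 3 J4N.p J4N.ZB.HW, x * z = z * x := J4R.gens.comm_words c1
theorem cls1 : Y.Cls' 3 J4N.p (gsub 20 g) z (1, [[3, 0, 2, 0, 3, 0, 2, 0, 2, 0, 2, 0, 3, 0, 2, 0, 2, 0, 2, 0, 2, 0, 2, 0, 3, 0, 3, 0, 3, 0, 3, 0, 2, 0, 2, 0, 2, 0, 3, 0, 3, 0, 2, 0, 2, 0, 2, 0, 3, 0, 2, 0, 2, 1, 2, 1, 3, 1, 3, 1, 3, 1, 3, 1, 2, 1, 4, 0, 3, 0, 2, 0, 2, 0, 2, 0, 2, 0, 3, 0], [3, 0, 2, 0, 3, 0, 2, 0, 3, 0, 3, 0, 3, 0, 2, 0, 3, 0, 2, 0, 3, 0, 3, 0, 3, 0, 2, 0, 2, 0, 3, 0, 2, 0, 3, 0, 2, 0, 3, 3, 1, 2, 1, 3, 1, 3, 1, 3, 1, 3, 1, 4, 0, 2, 0, 2, 0, 2, 0, 2, 0, 3, 0, 2, 0, 2, 0, 2, 0]],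 33030144) :=
  Or.inr (J4T.Z.cls1 commH wb331 wb333 wb339 wb345)
theorem cls4 : Y.Cls' 3 J4N.p (gsub 20 g) z (4, [[0, 2, 0, 2, 0, 2, 0, 2, 0, 2, 0, 3, 0, 2, 0, 2, 0, 2, 0, 3, 0, 3, 0, 3, 0, 3, 0, 3, 0, 3, 0, 3, 0, 3, 0, 3, 0, 2, 0, 3, 0, 3, 0, 3, 0, 3, 0, 2, 0, 3, 0, 2, 2, 1, 3, 1, 3, 1, 2, 1, 2, 1, 2, 1, 2, 1, 3, 1, 2, 1, 4, 0, 3, 0, 2, 0, 3, 0, 3, 0, 3, 0, 3, 0, 2, 0, 2, 0, 3, 0, 2], [2, 0, 2, 0, 3, 0, 3, 0, 3, 0, 3, 0, 3, 0, 3, 0, 3, 0, 2, 0, 2, 0, 2, 0, 3, 0, 2, 0, 3, 0, 2, 0, 3, 0, 3, 0, 3, 0, 2, 0, 3, 0, 3, 0, 3, 0, 3, 0, 3, 0, 3, 0, 3, 3, 1, 3, 1, 3, 1, 2, 1, 2, 1, 2, 1, 3, 1, 2, 1, 2, 1, 2, 1, 4, 0, 3, 0, 3, 0, 3, 0, 2, 0, 3, 0, 3, 0, 3, 0, 2, 0, 2, 0, 2]], 17694720) :=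
  Or.inr (J4T.Z.cls4 commH wb351 wb353 wb355 wb361)
theorem cls6 : Y.Cls' 3 J4N.p (gsub 20 g) z (6, [[0, 3, 0, 2, 0, 2, 0, 3, 0, 2, 0, 3, 0, 3, 0, 3, 0, 2, 0, 2, 0, 3, 0, 3, 0, 2, 0, 3, 0, 2, 0, 3, 0, 2, 0, 3, 0, 3, 0, 3, 0, 2, 0, 3, 0, 3, 0, 3, 0, 3, 0, 2, 0, 3, 0, 2, 2, 1, 2, 1, 2, 1, 2, 1, 3, 1, 2, 1, 3, 1, 2, 1, 3, 1, 2, 1, 3, 1, 4, 0, 2, 0, 3, 0, 2, 0, 3, 0, 2, 0, 3, 0, 2, 0, 3, 0, 3, 0, 3, 0, 3], [0, 2, 0, 3, 0, 2, 0, 3, 0, 2, 0, 2, 0, 2, 0, 3, 0, 2, 0, 2, 0, 2, 0, 2, 0, 2, 0, 2, 0, 3, 0, 3, 0, 2, 0, 2, 0, 3, 0, 3, 0, 3, 0, 3, 0, 3, 0, 2, 0, 3, 3, 1, 2, 1, 3, 1, 2, 1, 2, 1, 3, 1, 3, 1, 3, 1, 3, 1, 2, 1, 2, 1, 4, 0, 3, 0, 3, 0, 2, 0, 2, 0, 2, 0, 2, 0, 3, 0, 3, 0, 2, 0, 3, 0, 2]], 147456)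 :=
  Or.inr (J4T.Z.cls6 commH wb367 wb369 wb371 wb373 wb375 wb377 wb379 wb385)
theorem cls7 : Y.Cls' 3 J4N.p (gsub 20 g) z (7, [[0, 2, 0, 3, 0, 3, 0, 2, 0, 2, 0, 3, 0, 3, 0, 3, 0, 3, 0, 2, 0, 3, 0, 3, 0, 3, 0, 2, 0, 3, 0, 3, 0, 3, 0, 3, 0, 2, 0, 3, 0, 3, 0, 3, 0, 3, 0, 3, 0, 2, 2, 1, 4, 2, 1, 2, 1, 2, 1, 4, 0, 3, 0, 3, 0, 3, 0, 3, 0, 3], [2, 0, 2, 0, 3, 0, 2, 0, 2, 0, 2, 0, 2, 0, 3, 0, 2, 0, 3, 0, 2, 0, 2, 0, 2, 0, 3, 0, 2, 0, 3, 0, 2, 0, 3, 0, 3, 0, 2, 0, 2, 0, 3, 0, 3, 0, 2, 0, 3, 3, 1, 3, 1, 3, 1, 3, 1, 3, 1, 2, 1, 2, 1, 4, 0, 3, 0, 3, 0, 2, 0, 2, 0, 2, 0, 2, 0, 2, 0]], 15360) :=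
  Or.inr (J4T.Z.cls7 commH wb392 wb394 wb396 wb398 wb400 wb402 wb404)
theorem cls10 : Y.Cls' 3 J4N.p (gsub 20 g) z (10, [[0, 2, 0, 2, 0, 2, 0, 3, 0, 2, 0, 3, 0, 2, 0, 2, 0, 3, 0, 3, 0, 3, 0, 2, 0, 2, 0, 3, 0, 3, 0, 3, 0, 3, 0, 3, 0, 3, 0, 2, 0, 2, 0, 2, 0, 2, 1, 2, 1, 2, 1, 3, 1, 2, 1, 3, 1, 2, 1, 2, 1, 3, 1, 2, 1, 3, 1, 4, 0, 2, 0, 3, 0, 2, 0, 3, 0, 3, 0, 2, 0, 3, 0, 2, 0, 3, 0, 3, 0, 3], [3, 0, 2, 0, 3, 0, 2, 0, 3, 0, 2, 0, 3, 0, 3, 0, 3, 0, 3, 0, 3, 0, 2, 0, 3, 0, 2, 0, 3, 0, 3, 0, 3, 0, 3, 0, 3, 0, 2, 0, 2, 0, 2, 0, 3, 0, 2, 0, 3, 0, 3, 0, 2, 0, 3, 1, 2, 1, 3, 1, 2, 1, 2, 1, 3, 1, 3, 1, 4, 0, 2, 0, 2, 0, 3, 0, 3, 0, 2, 0, 3, 0, 2]], 9216) :=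
  Or.inr (J4T.Z.cls10 commH wb411 wb413 wb415 wb417 wb419 wb421 wb423 wb425)
theorem cls12 : Y.Cls' 3 J4N.p (gsub 20 g) z (12, [[0, 2, 0, 3, 0, 3, 0, 2, 0, 2, 0, 2, 0, 2, 0, 3, 0, 2, 0, 2, 0, 3, 0, 3, 0, 2, 0, 2, 0, 2, 0, 2, 0, 3, 0, 2, 0, 3, 0, 2, 0, 3, 0, 2, 2, 1, 3, 1, 2, 1, 3, 1, 2, 1, 3, 1, 3, 1, 2, 1, 2, 1, 4, 0, 3, 0, 3, 0, 2, 0, 2, 0, 3, 0, 2, 0, 3, 0, 2, 0, 3, 0, 2], [3, 0, 3, 0, 3, 0, 2, 0, 2, 0, 3, 0, 3, 0, 2, 0, 2, 0, 2, 0, 2, 0, 2, 0, 2, 0, 2, 0, 2, 0, 2, 0, 3, 0, 2, 0, 3, 0, 3, 0, 3, 0, 3, 0, 3, 0, 2, 2, 1, 2, 1, 4, 0, 3, 0, 3, 1, 2, 1, 3, 1, 4, 0, 2, 0, 3, 0]], 6072) :=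
  Or.inr (J4T.Z.cls12 commH wb428 wb430 wb432 wb434)
theorem cenH : Subgroup.centralizer {z} = wsub 3 J4N.p J4N.ZB.HW :=
  centralizer_eq_of_coatom J4T.Z.coatom commH (y := ev (atm 3 J4N.p) [0]) (by
    rw [← ev_lapp, ← ev_lapp]; exact J4R.gens.neq c2)
theorem cent : Subgroup.centralizer {g 0} = gsub 20 g := by
  rw [← elz]
  exact (J4C2.done J4L.pres2).cent' (J4C2.gtop J4L.pres2 (J4C.top2 J4V.top))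
    (J4Z.exact J4V.pres J4V.top J4L.lb) (elz ▸ commK)
    (fun u hu => subK ⟨u, cenH ▸ Subgroup.mem_centralizer_singleton_iff.mpr hu, rfl⟩)
    (AllP.cons (Or.inl rfl) (AllP.cons cls1 (AllP.cons cls4 (AllP.cons cls6 (AllP.cons cls7 (AllP.cons cls10 (AllP.cons cls12 (AllP.nil))))))))

end Cfsg.Agent.Spor.J4W
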